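import Mathlib
import Cfsg.Prelude.Def_Transfer

/-!
Counting conjugacy classes of `π`-elements: `k_π(G) ≤ k_p(G) · |G|_{π∖p}`, and the criterion for
`p`-nilpotency with abelian Sylow `p`-subgroups in terms of the number of classes of `p`-elements.
-/

namespace Cfsg.Agent.ClassCount

open Subgroup

/-- An element all of whose order's prime divisors lie in `π`. -/
def IsPiElt {G : Type*} [Group G] (π : Finset ℕ) (x : G) : Prop :=
  ∀ r : ℕ, r.Prime → r ∣ orderOf x → r ∈ π

/-- The number of conjugacy classes of `π`-elements. -/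
noncomputable def kPi (π : Finset ℕ) (G : Type*) [Group G] : ℕ :=
  Nat.card {c : ConjClasses G // ∀ x ∈ c.carrier, IsPiElt π x}

/-- The number of conjugacy classes of `p`-elements. -/
noncomputable def kP (p : ℕ) (G : Type*) [Group G] : ℕ :=
  Nat.card {c : ConjClasses G // ∀ x ∈ c.carrier, ∃ k : ℕ, orderOf x = p ^ k}

variable {G : Type*} [Group G]

theorem orderOf_eq_of_isConj {a b : G} (h : IsConj a b) : orderOf a = orderOf b := by
  obtain ⟨c, rfl⟩ := isConj_iff.mp h
  exact ((MulAut.conj c).orderOf_eq a).symm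

theorem forall_carrier_mk {q : G → Prop} (hq : ∀ a b : G, IsConj a b → q a → q b) (g : G) :
    (∀ x ∈ (ConjClasses.mk g).carrier, q x) ↔ q g := by
  refine ⟨fun h => h g ConjClasses.mem_carrier_mk, fun hg x hx => hq g x ?_ hg⟩
  exact ConjClasses.mk_eq_mk_iff_isConj.mp (ConjClasses.mem_carrier_iff_mk_eq.mp hx).symm

theorem forall_carrier_mk_order {q : ℕ → Prop} (g : G) :
    (∀ x ∈ (ConjClasses.mk g).carrier, q (orderOf x)) ↔ q (orderOf g) :=
  forall_carrier_mk (q := fun x => q (orderOf x))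
    (fun _ _ h ha => orderOf_eq_of_isConj h ▸ ha) g

variable [Finite G]

theorem kPi_empty : kPi ∅ G ≤ 1 := by
  have hsub : Subsingleton {c : ConjClasses G // ∀ x ∈ c.carrier, IsPiElt ∅ x} := by
    have h1 : ∀ c : {c : ConjClasses G // ∀ x ∈ c.carrier, IsPiElt ∅ x},
        c.1 = ConjClasses.mk 1 := by
      rintro ⟨c, hc⟩
      obtain ⟨g, rfl⟩ := ConjClasses.exists_rep c
      have hg := hc g ConjClasses.mem_carrier_mk
      by_contra hne
      have h1 : orderOf g ≠ 1 := by
        intro h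
        exact hne (congrArg ConjClasses.mk (orderOf_eq_one_iff.mp h))
      obtain ⟨r, hr, hrd⟩ := Nat.exists_prime_and_dvd h1
      exact absurd (hg r hr hrd) (Finset.notMem_empty r)
    exact ⟨fun a b => Subtype.ext ((h1 a).trans (h1 b).symm)⟩
  exact Finite.card_le_one_iff_subsingleton.mpr hsub

/-- Every conjugacy class of `p`-elements meets a Sylow `p`-subgroup. -/
theorem exists_mem_sylow_isConj {p : ℕ} [Fact p.Prime] (P : Sylow p G) (g : G)
    (hg : ∃ k : ℕ, orderOf g = p ^ k) : ∃ x ∈ (P : Subgroup G), IsConj g x := by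
  obtain ⟨k, hk⟩ := hg
  have hp : IsPGroup p (zpowers g) := IsPGroup.of_card (by rw [Nat.card_zpowers, hk])
  obtain ⟨Q, hQ⟩ := hp.exists_le_sylow
  obtain ⟨h, hh⟩ := MulAction.exists_smul_eq G Q P
  refine ⟨h * g * h⁻¹, ?_, isConj_iff.mpr ⟨h, rfl⟩⟩
  have hmem : g ∈ (Q : Subgroup G) := hQ (mem_zpowers g)
  have := Subgroup.smul_mem_pointwise_smul g (MulAut.conj h) (Q : Subgroup G) hmem
  rw [← hh, Sylow.coe_subgroup_smul]
  exact this

theorem kP_le_card {p : ℕ} [Fact p.Prime] (P : Sylow p G) :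
    kP p G ≤ Nat.card (P : Subgroup G) := by
  refine Nat.card_le_card_of_surjective
    (fun x : (P : Subgroup G) => (⟨ConjClasses.mk (x : G), ?_⟩ :
      {c : ConjClasses G // ∀ y ∈ c.carrier, ∃ k : ℕ, orderOf y = p ^ k})) ?_
  · rw [forall_carrier_mk_order (q := fun n => ∃ k : ℕ, n = p ^ k)]
    obtain ⟨k, hk⟩ := IsPGroup.iff_orderOf.mp P.2 x
    exact ⟨k, by rwa [Subgroup.orderOf_coe]⟩
  · rintro ⟨c, hc⟩
    obtain ⟨g, rfl⟩ := ConjClasses.exists_rep c
    obtain ⟨x, hx, hgx⟩ := exists_mem_sylow_isConj P g (hc g ConjClasses.mem_carrier_mk)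
    exact ⟨⟨x, hx⟩, Subtype.ext (ConjClasses.mk_eq_mk_iff_isConj.mpr hgx.symm)⟩

/-- If every element of a Sylow `p`-subgroup `P` outside a subgroup `S` has at least `m` conjugates
in `P`, then `m · k_p(G) ≤ |P| + (m - 1)|S|`. -/
theorem mul_kP_le {p : ℕ} [Fact p.Prime] (P : Sylow p G) (S : Subgroup G) (hS : S ≤ P) (m : ℕ)
    (hm : ∀ x ∈ (P : Subgroup G), x ∉ S →
      m ≤ Nat.card {y : (P : Subgroup G) // IsConj x (y : G)}) :
    m * kP p G ≤ Nat.card (P : Subgroup G) + (m - 1) * Nat.card S := by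
  classical
  have := Fintype.ofFinite G
  set K := {c : ConjClasses G // ∀ y ∈ c.carrier, ∃ k : ℕ, orderOf y = p ^ k}
  have := Fintype.ofFinite K
  let f : ↥(P : Subgroup G) → K := fun x => ⟨ConjClasses.mk (x : G), by
    rw [forall_carrier_mk_order (q := fun n => ∃ k : ℕ, n = p ^ k)]
    obtain ⟨k, hk⟩ := IsPGroup.iff_orderOf.mp P.2 x
    exact ⟨k, by rwa [Subgroup.orderOf_coe]⟩⟩
  let s : Finset (P : Subgroup G) := Finset.univ.filter fun x => (x : G) ∈ S
  have hs : s.card = Nat.card S := by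
    rw [← Nat.card_congr (Subgroup.subgroupOfEquivOfLe hS).toEquiv, Nat.card_eq_fintype_card,
      Fintype.card_subtype]
    rfl
  have key : ∀ c : K, m ≤ (Finset.univ.filter fun x => f x = c).card +
      (m - 1) * (s.filter fun x => f x = c).card := by
    intro c
    obtain ⟨g, hg⟩ := ConjClasses.exists_rep c.1
    obtain ⟨x, hx, hgx⟩ := exists_mem_sylow_isConj P g (c.2 g (hg ▸ ConjClasses.mem_carrier_mk))
    have hfx : f ⟨x, hx⟩ = c :=
      Subtype.ext ((ConjClasses.mk_eq_mk_iff_isConj.mpr hgx.symm).trans hg)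
    by_cases hmeet : ∃ y : (P : Subgroup G), (y : G) ∈ S ∧ f y = c
    · obtain ⟨y, hyS, hyc⟩ := hmeet
      have h1 : 1 ≤ (Finset.univ.filter fun x => f x = c).card :=
        Finset.card_pos.mpr ⟨y, Finset.mem_filter.mpr ⟨Finset.mem_univ _, hyc⟩⟩
      have h2 : 1 ≤ (s.filter fun x => f x = c).card := Finset.card_pos.mpr
        ⟨y, Finset.mem_filter.mpr ⟨Finset.mem_filter.mpr ⟨Finset.mem_univ _, hyS⟩, hyc⟩⟩
      have h3 : m - 1 ≤ (m - 1) * (s.filter fun x => f x = c).card :=
        Nat.le_mul_of_pos_right _ h2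
      omega
    · have hxS : x ∉ S := fun h => hmeet ⟨⟨x, hx⟩, h, hfx⟩
      refine le_trans (hm x hx hxS) (le_trans ?_ (Nat.le_add_right _ _))
      rw [Nat.card_eq_fintype_card, Fintype.card_subtype]
      refine Finset.card_le_card fun y hy => ?_
      rw [Finset.mem_filter] at hy ⊢
      exact ⟨Finset.mem_univ _, hfx ▸ Subtype.ext (ConjClasses.mk_eq_mk_iff_isConj.mpr hy.2.symm)⟩
  have hsum := Finset.sum_le_sum (s := (Finset.univ : Finset K)) fun c _ => key c
  rw [Finset.sum_const, smul_eq_mul, Finset.sum_add_distrib, ← Finset.mul_sum,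
    ← Finset.card_eq_sum_card_fiberwise (fun x _ => Finset.mem_univ (f x)),
    ← Finset.card_eq_sum_card_fiberwise (fun x _ => Finset.mem_univ (f x)), hs,
    Finset.card_univ, Finset.card_univ] at hsum
  rw [Nat.card_eq_fintype_card, kP, Nat.card_eq_fintype_card, mul_comm m]
  convert hsum

/-- A group with many classes of `p`-elements (`p` odd) is `p`-nilpotent with abelian Sylow
`p`-subgroups. -/
theorem complement_of_many_classes {p : ℕ} [Fact p.Prime] (hp : p ≠ 2) (P : Sylow p G)
    (h : (p + 1) * Nat.card (P : Subgroup G) < 2 * p * kP p G) :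
    IsMulCommutative (P : Subgroup G) ∧
      ∃ N : Subgroup G, N.Normal ∧ N.IsComplement' (P : Subgroup G) := by
  have hp3 : 3 ≤ p := by
    have := (Fact.out : p.Prime).two_le
    omega
  set n := Nat.card (P : Subgroup G) with hn
  have hcomm : IsMulCommutative (P : Subgroup G) := by
    by_contra hna
    let Z : Subgroup G := (Subgroup.center (P : Subgroup G)).map (P : Subgroup G).subtype
    have hZle : Z ≤ (P : Subgroup G) := Subgroup.map_subtype_le _
    have hZcard : Nat.card Z = Nat.card (Subgroup.center (P : Subgroup G)) :=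
      Subgroup.card_map_of_injective (Subgroup.subtype_injective _)
    have hfib : ∀ x ∈ (P : Subgroup G), x ∉ Z →
        p ≤ Nat.card {y : (P : Subgroup G) // IsConj x (y : G)} := by
      intro x hx hxZ
      have hxc : (⟨x, hx⟩ : (P : Subgroup G)) ∉ Subgroup.center (P : Subgroup G) :=
        fun hc => hxZ ⟨_, hc, rfl⟩
      have h1 : (Subgroup.centralizer ({⟨x, hx⟩} : Set (P : Subgroup G))).index ≠ 1 := by
        rw [Ne, Subgroup.index_eq_one, Subgroup.centralizer_eq_top_iff_subset]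
        simpa using hxc
      obtain ⟨j, hj⟩ := P.2.index (Subgroup.centralizer ({⟨x, hx⟩} : Set (P : Subgroup G)))
      have h2 : p ≤ (Subgroup.centralizer ({⟨x, hx⟩} : Set (P : Subgroup G))).index := by
        rcases Nat.eq_zero_or_pos j with rfl | hj0
        · exact absurd (by simpa using hj) h1
        · rw [hj]; exact Nat.le_self_pow hj0.ne' p
      refine h2.trans ?_
      let φ : ↥(P : Subgroup G) ⧸ Subgroup.centralizer ({⟨x, hx⟩} : Set (P : Subgroup G)) →
          {y : (P : Subgroup G) // IsConj x (y : G)} := fun q =>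
        ⟨q.out * ⟨x, hx⟩ * q.out⁻¹, isConj_iff.mpr ⟨(q.out : G), rfl⟩⟩
      refine Nat.card_le_card_of_injective φ fun q q' hqq => ?_
      have he : q.out * ⟨x, hx⟩ * q.out⁻¹ = q'.out * ⟨x, hx⟩ * q'.out⁻¹ :=
        congrArg Subtype.val hqq
      rw [← q.out_eq', ← q'.out_eq', QuotientGroup.eq, Subgroup.mem_centralizer_singleton_iff]
      calc q.out⁻¹ * q'.out * ⟨x, hx⟩
          = q.out⁻¹ * (q'.out * ⟨x, hx⟩ * q'.out⁻¹) * q'.out := by group
        _ = q.out⁻¹ * (q.out * ⟨x, hx⟩ * q.out⁻¹) * q'.out := by rw [he]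
        _ = ⟨x, hx⟩ * (q.out⁻¹ * q'.out) := by group
    have hk := mul_kP_le P Z hZle p hfib
    obtain ⟨j, hj⟩ := P.2.index (Subgroup.center (P : Subgroup G))
    have hmulc := Subgroup.card_mul_index (Subgroup.center (P : Subgroup G))
    rw [hj, ← hZcard, ← hn] at hmulc
    have hj2 : 2 ≤ j := by
      by_contra hlt
      apply hna
      have hcyc : IsCyclic ((P : Subgroup G) ⧸ Subgroup.center (P : Subgroup G)) := by
        have hc : Nat.card ((P : Subgroup G) ⧸ Subgroup.center (P : Subgroup G)) = p ^ j := hj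
        rcases (show j = 0 ∨ j = 1 by omega) with rfl | rfl
        · have := (Nat.card_eq_one_iff_unique.mp (hc.trans (pow_zero p))).1
          infer_instance
        · exact isCyclic_of_prime_card (hc.trans (pow_one p))
      exact MonoidHom.isMulCommutative_of_isCyclic_of_ker_le_center
        (QuotientGroup.mk' (Subgroup.center _)) (QuotientGroup.ker_mk' _).le
    have hle : Nat.card Z * p ^ 2 ≤ n :=
      hmulc ▸ Nat.mul_le_mul_left _ (Nat.pow_le_pow_right (by omega) hj2)
    have hnpos : 0 < n := Nat.card_pos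
    obtain ⟨p', rfl⟩ : ∃ p' : ℕ, p = p' + 3 := ⟨p - 3, by omega⟩
    simp only [show p' + 3 - 1 = p' + 2 by omega] at hk
    set k := kP (p' + 3) G
    set z := Nat.card Z
    nlinarith [Nat.mul_le_mul_left (p' + 2) hle, Nat.zero_le (p' ^ 3 * n),
      Nat.zero_le (p' ^ 2 * n), Nat.zero_le (p' * n)]
  refine ⟨hcomm, ?_⟩
  let C : Subgroup G := (P : Subgroup G) ⊓
    Subgroup.centralizer ((Subgroup.normalizer ((P : Subgroup G) : Set G)) : Set G)
  by_cases hC : C = P
  · have hP : Subgroup.normalizer ((P : Subgroup G) : Set G) ≤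
        Subgroup.centralizer ((P : Subgroup G) : Set G) := by
      intro g hg x hx
      have hxC : x ∈ C := hC.symm ▸ hx
      exact (Subgroup.mem_inf.mp hxC).2 g hg |>.symm
    exact ⟨(MonoidHom.transferSylow P hP).ker, inferInstance,
      MonoidHom.ker_transferSylow_isComplement' P hP⟩
  · exfalso
    have hfib : ∀ x ∈ (P : Subgroup G), x ∉ C →
        2 ≤ Nat.card {y : (P : Subgroup G) // IsConj x (y : G)} := by
      intro x hx hxC
      have hxc : x ∉ Subgroup.centralizer
          ((Subgroup.normalizer ((P : Subgroup G) : Set G)) : Set G) :=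
        fun hc => hxC (Subgroup.mem_inf.mpr ⟨hx, hc⟩)
      rw [Subgroup.mem_centralizer_iff] at hxc
      push Not at hxc
      obtain ⟨g, hg, hne⟩ := hxc
      have hgx : g * x * g⁻¹ ∈ (P : Subgroup G) :=
        (Subgroup.mem_normalizer_iff.mp hg x).mp hx
      have hnt : Nontrivial {y : (P : Subgroup G) // IsConj x (y : G)} :=
        ⟨⟨⟨x, hx⟩, IsConj.refl x⟩, ⟨⟨g * x * g⁻¹, hgx⟩, isConj_iff.mpr ⟨g, rfl⟩⟩, fun he => by
          have he' : x = g * x * g⁻¹ := congrArg (fun y => ((y.1 : (P : Subgroup G)) : G)) he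
          exact hne (eq_mul_inv_iff_mul_eq.mp he').symm⟩
      exact Finite.one_lt_card_iff_nontrivial.mpr hnt
    have hk := mul_kP_le P C inf_le_left 2 hfib
    simp only [show (2 : ℕ) - 1 = 1 from rfl, one_mul] at hk
    obtain ⟨j, hj⟩ := P.2.index (C.subgroupOf (P : Subgroup G))
    have hmulc := Subgroup.card_mul_index (C.subgroupOf (P : Subgroup G))
    rw [hj, Nat.card_congr (Subgroup.subgroupOfEquivOfLe (show C ≤ P from inf_le_left)).toEquiv,
      ← hn] at hmulc
    have hj1 : 1 ≤ j := by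
      rcases Nat.eq_zero_or_pos j with rfl | hj0
      · exact absurd (le_antisymm inf_le_left (Subgroup.subgroupOf_eq_top.mp
          (Subgroup.index_eq_one.mp (hj.trans (pow_zero p))))) hC
      · exact hj0
    have hle : Nat.card C * p ≤ n :=
      hmulc ▸ Nat.mul_le_mul_left _ (Nat.le_self_pow (by omega) p)
    have h2 := Nat.mul_le_mul_left p hk
    nlinarith

/-- In a `p`-nilpotent group with abelian Sylow `p`-subgroups, `|P| ≤ k_p(G)`. -/
theorem card_le_kP {p : ℕ} [Fact p.Prime] (P : Sylow p G) (hN : Cfsg.HasNormalPComplement p G)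
    (hab : IsMulCommutative (P : Subgroup G)) : Nat.card (P : Subgroup G) ≤ kP p G := by
  obtain ⟨Q, N, hNn, hc⟩ := hN
  have hidx : N.index = Nat.card (P : Subgroup G) := by
    rw [hc.symm.index_eq_card, Sylow.card_eq_multiplicity, Sylow.card_eq_multiplicity]
  have hNP : ¬ p ∣ Nat.card N := by
    have hh : Nat.card N = (Q : Subgroup G).index := hc.index_eq_card.symm
    exact hh ▸ Q.not_dvd_index
  have hdisj : ∀ x ∈ (P : Subgroup G), x ∈ N → x = 1 := by
    intro x hx hxN
    obtain ⟨k, hk⟩ := IsPGroup.iff_orderOf.mp P.2 ⟨x, hx⟩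
    have hk' : orderOf x = p ^ k := by rwa [← Subgroup.orderOf_mk x hx]
    rcases Nat.eq_zero_or_pos k with rfl | hk0
    · simpa using hk'
    · exact absurd ((dvd_pow_self p hk0.ne').trans (hk' ▸ Subgroup.orderOf_dvd_natCard N hxN)) hNP
  let φ : ↥(P : Subgroup G) →* G ⧸ N := (QuotientGroup.mk' N).comp (P : Subgroup G).subtype
  have hinj : Function.Injective φ := (injective_iff_map_eq_one φ).mpr fun x hx =>
    Subtype.ext (hdisj x x.2 ((QuotientGroup.eq_one_iff (x : G)).mp hx))
  have hcard : Nat.card (P : Subgroup G) = Nat.card (G ⧸ N) := hidx.symm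
  have hsurj : Function.Surjective φ :=
    ((Nat.bijective_iff_injective_and_card φ).mpr ⟨hinj, hcard⟩).2
  refine Nat.card_le_card_of_injective
    (fun x : (P : Subgroup G) => (⟨ConjClasses.mk (x : G), ?_⟩ :
      {c : ConjClasses G // ∀ y ∈ c.carrier, ∃ k : ℕ, orderOf y = p ^ k})) ?_
  · rw [forall_carrier_mk_order (q := fun n => ∃ k : ℕ, n = p ^ k)]
    obtain ⟨k, hk⟩ := IsPGroup.iff_orderOf.mp P.2 x
    exact ⟨k, by rwa [Subgroup.orderOf_coe]⟩
  · intro x y hxy
    obtain ⟨g, hg⟩ := isConj_iff.mp (ConjClasses.mk_eq_mk_iff_isConj.mp (congrArg Subtype.val hxy))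
    obtain ⟨z, hz⟩ := hsurj (QuotientGroup.mk' N g)
    apply hinj
    have h1 : φ y = φ z * φ x * (φ z)⁻¹ := by
      rw [hz]
      simp only [φ, MonoidHom.comp_apply, Subgroup.coe_subtype, ← hg, map_mul, map_inv]
    rw [h1, ← map_inv, ← map_mul, ← map_mul, hab.is_comm.comm z x, mul_inv_cancel_right]

end Cfsg.Agent.ClassCount
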