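import Cfsg.Agent.S4198
import Cfsg.Agent.S4200
import Cfsg.Agent.S4201
import Mathlib

/-!
Kovács–Robinson bound: a permutation group of degree `n` has at most `5 ^ (n - 1)` classes.
The primitive case uses a Bochert base of size at most `n / 2` (set stabiliser of the base).
-/

set_option autoImplicit false

namespace Cfsg.Agent.ClassCount

open Equiv MulAction
open scoped Pointwise

theorem exists_small_base {Ω : Type*} [Fintype Ω] [DecidableEq Ω] (P : Subgroup (Perm Ω))
    (hPp : MulAction.IsPreprimitive P Ω) (hA : ¬ alternatingGroup Ω ≤ P) :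
    ∃ D : Finset Ω, 2 * D.card ≤ Fintype.card Ω ∧
      ∀ g ∈ P, (∀ x ∈ D, g x = x) → g = 1 := by
  classical
  let bases : Finset (Finset Ω) :=
    Finset.univ.filter fun D => ∀ g ∈ P, (∀ x ∈ D, g x = x) → g = 1
  obtain ⟨D, hD, hmin⟩ := bases.exists_min_image Finset.card
    ⟨Finset.univ, Finset.mem_filter.mpr ⟨Finset.mem_univ _, fun g _ hg =>
      Equiv.ext fun x => hg x (Finset.mem_univ x)⟩⟩
  have hDbase := (Finset.mem_filter.mp hD).2
  have hhalf : 2 * D.card ≤ Fintype.card Ω := by
    by_contra hlt
    have hnot : ∀ E : Finset Ω, E.card < D.card → ∃ g ∈ P, (∀ x ∈ E, g x = x) ∧ g ≠ 1 := by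
      intro E hE
      by_contra! h
      exact absurd (hmin E (Finset.mem_filter.mpr ⟨Finset.mem_univ _, h⟩)) (by omega)
    obtain ⟨g, hg, hgfix, hg1⟩ := hnot Dᶜ (by rw [Finset.card_compl]; omega)
    have hgout : ∀ x, x ∉ D → g x = x := fun x hx => hgfix x (Finset.mem_compl.mpr hx)
    obtain ⟨a, ha⟩ : ∃ a, g a ≠ a := by
      by_contra! h
      exact hg1 (Equiv.ext h)
    have haD : a ∈ D := by
      by_contra h
      exact ha (hgout a h)
    obtain ⟨h, hh, hhfix, hh1⟩ := hnot (D.erase a) (Finset.card_erase_lt_of_mem haD)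
    have hhD : ∀ x ∈ D, x ≠ a → h x = x := fun x hx hxa =>
      hhfix x (Finset.mem_erase.mpr ⟨hxa, hx⟩)
    have hha : h a ≠ a := fun he => hh1 (hDbase h hh fun x hx => by
      rcases eq_or_ne x a with rfl | hxa
      · exact he
      · exact hhD x hx hxa)
    have hc : g * h * g⁻¹ * h⁻¹ ∈ P := P.mul_mem (P.mul_mem (P.mul_mem hg hh) (P.inv_mem hg)) (P.inv_mem hh)
    have hgaD : g a ∈ D := by
      by_contra hx
      exact ha (g.injective (hgout _ hx))
    have hhaD : h a ∉ D := fun hx => hha (h.injective (hhD _ hx hha))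
    have hghne : g a ≠ h a := fun he => hhaD (he ▸ hgaD)
    have hgha : g (h a) = h a := hgout _ hhaD
    have hhga : h (g a) = g a := hhD _ hgaD ha
    have happ : ∀ x, (g * h * g⁻¹ * h⁻¹) x = g (h (g.symm (h.symm x))) := fun x => rfl
    have hout : ∀ x, x ∉ D → g.symm x = x := fun x hx => g.symm_apply_eq.mpr (hgout x hx).symm
    have hpre : ∀ x, x ∈ D → g.symm x ∈ D := fun x hx => by
      by_contra hy
      exact hy (by rwa [show g.symm x = x by rw [← hgout _ hy, g.apply_symm_apply]])
    have hpreh : h.symm a ∉ D := fun hx => by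
      rcases eq_or_ne (h.symm a) a with he | he
      · exact hha (h.symm_apply_eq.mp he).symm
      · exact he ((h.apply_symm_apply a).symm.trans (hhD _ hx he)).symm
    have c1 : (g * h * g⁻¹ * h⁻¹) a = g a := by
      rw [happ, hout _ hpreh, h.apply_symm_apply]
    have c2 : (g * h * g⁻¹ * h⁻¹) (g a) = h a := by
      rw [happ, show h.symm (g a) = g a from h.symm_apply_eq.mpr hhga.symm, g.symm_apply_apply,
        hgha]
    have c3 : (g * h * g⁻¹ * h⁻¹) (h a) = a := by
      rw [happ, h.symm_apply_apply, hhD _ (hpre a haD)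
        (fun he => ha (g.symm_apply_eq.mp he).symm), g.apply_symm_apply]
    have c4 : ∀ x, x ≠ a → x ≠ g a → x ≠ h a → (g * h * g⁻¹ * h⁻¹) x = x := by
      intro x hxa hxg hxh
      rw [happ]
      by_cases hx : x ∈ D
      · rw [show h.symm x = x from h.symm_apply_eq.mpr (hhD x hx hxa).symm,
          hhD _ (hpre x hx) (fun he => hxg (g.symm_apply_eq.mp he)), g.apply_symm_apply]
      · have hy : h.symm x ∉ D := fun hy => by
          have hya : h.symm x ≠ a := fun he => hxh (h.symm_apply_eq.mp he)
          have := hhD _ hy hya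
          rw [h.apply_symm_apply] at this
          exact hx (this ▸ hy)
        rw [hout _ hy, h.apply_symm_apply, hgout x hx]
    have h3 : (g * h * g⁻¹ * h⁻¹).IsThreeCycle := by
      rw [← card_support_eq_three_iff]
      rw [show (g * h * g⁻¹ * h⁻¹).support = {a, g a, h a} by
        ext x
        simp only [Equiv.Perm.mem_support, Finset.mem_insert, Finset.mem_singleton]
        constructor
        · intro hx
          by_contra! hne
          exact hx (c4 x hne.1 hne.2.1 hne.2.2)
        · rintro (rfl | rfl | rfl)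
          · rw [c1]; exact ha
          · rw [c2]; exact hghne.symm
          · rw [c3]; exact hha.symm]
      rw [Finset.card_eq_three]
      exact ⟨a, g a, h a, ha.symm, hha.symm, hghne, rfl⟩
    exact hA (Equiv.Perm.alternatingGroup_le_of_isPreprimitive_of_isThreeCycle_mem hPp h3 hc)
  exact ⟨D, hhalf, hDbase⟩

theorem kk_congr {A B : Type*} [Group A] [Group B] (e : A ≃* B) :
    Nat.card (ConjClasses A) = Nat.card (ConjClasses B) := by
  refine Nat.card_eq_of_bijective (ConjClasses.map e.toMonoidHom) ⟨?_, ?_⟩
  · intro a b h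
    induction a using Quotient.inductionOn with
    | h a =>
      induction b using Quotient.inductionOn with
      | h b =>
        have h' : IsConj (e a) (e b) := ConjClasses.mk_eq_mk_iff_isConj.mp h
        obtain ⟨c, hc⟩ := isConj_iff.mp h'
        refine ConjClasses.mk_eq_mk_iff_isConj.mpr (isConj_iff.mpr ⟨e.symm c, ?_⟩)
        apply e.injective
        simp [hc]
  · exact ConjClasses.map_surjective e.surjective

theorem kk_le_card {A : Type*} [Group A] [Finite A] :
    Nat.card (ConjClasses A) ≤ Nat.card A :=
  Nat.card_le_card_of_surjective ConjClasses.mk ConjClasses.mk_surjective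

theorem kk_le_ker_range {A B : Type*} [Group A] [Finite A] [Group B] (φ : A →* B) :
    Nat.card (ConjClasses A) ≤
      Nat.card (ConjClasses φ.ker) * Nat.card (ConjClasses φ.range) := by
  rw [← kk_congr (QuotientGroup.quotientKerEquivRange φ)]
  exact Cfsg.Agent.S4201.result φ.ker

/-- `G` fixes each fibre of `f`, which has `m` values. -/
def FibreBound (n : ℕ) : Prop :=
  ∀ (α : Type) (_ : Fintype α) (_ : DecidableEq α) (β : Type) (_ : Fintype β),
    Fintype.card α = n → ∀ (G : Subgroup (Perm α)) (f : α → β),
      Function.Surjective f → (∀ g ∈ G, ∀ x, f (g x) = f x) →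
        Nat.card (ConjClasses G) ≤ 5 ^ (n - Fintype.card β)

theorem bound_single {n : ℕ} (hn : FibreBound n) {α : Type} [Fintype α] [DecidableEq α]
    [Nonempty α] (hc : Fintype.card α = n) (G : Subgroup (Perm α)) :
    Nat.card (ConjClasses G) ≤ 5 ^ (n - 1) :=
  hn α inferInstance inferInstance Unit inferInstance hc G (fun _ => ())
    (fun _ => ⟨Classical.arbitrary α, rfl⟩) (fun _ _ _ => rfl)

theorem bound_split {n : ℕ} (IH : ∀ k < n, FibreBound k) {α β : Type} [Fintype α]
    [DecidableEq α] [Fintype β] (hc : Fintype.card α = n) (G : Subgroup (Perm α)) (f : α → β)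
    (hf : Function.Surjective f) (hG : ∀ g ∈ G, ∀ x, f (g x) = f x)
    (hβ : 2 ≤ Fintype.card β) :
    Nat.card (ConjClasses G) ≤ 5 ^ (n - Fintype.card β) := by
  classical
  obtain ⟨b₀⟩ : Nonempty β := Fintype.card_pos_iff.mp (by omega)
  obtain ⟨b₁, hb₁⟩ := Fintype.exists_ne_of_one_lt_card (by omega) b₀
  obtain ⟨a₀, ha₀⟩ := hf b₀
  obtain ⟨a₁, ha₁⟩ := hf b₁
  let A := {x : α // f x = b₀}
  let B := {x : α // f x ≠ b₀}
  have hsum : Fintype.card A + Fintype.card B = n := by
    rw [← hc, ← Fintype.card_sum]
    exact Fintype.card_congr (Equiv.sumCompl fun x => f x = b₀)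
  have hA : 0 < Fintype.card A := Fintype.card_pos_iff.mpr ⟨⟨a₀, ha₀⟩⟩
  have hB : 0 < Fintype.card B := Fintype.card_pos_iff.mpr ⟨⟨a₁, by rw [ha₁]; exact hb₁⟩⟩
  have : Nonempty A := ⟨⟨a₀, ha₀⟩⟩
  let φ : G →* Perm A := MonoidHom.mk'
    (fun g => (g : Perm α).subtypePerm (fun x => by rw [hG _ g.2 x]))
    (fun g h => by ext x; rfl)
  let ψ : φ.ker →* Perm B := MonoidHom.mk'
    (fun g => ((g : G) : Perm α).subtypePerm (fun x => by rw [hG _ (g : G).2 x]))
    (fun g h => by ext x; rfl)
  have hψ : Function.Injective ψ := by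
    refine (injective_iff_map_eq_one ψ).mpr fun g hg => ?_
    apply Subtype.ext; apply Subtype.ext; ext x
    by_cases hx : f x = b₀
    · have := congrArg Subtype.val (Equiv.congr_fun g.2 ⟨x, hx⟩)
      exact this
    · have := congrArg Subtype.val (Equiv.congr_fun hg ⟨x, hx⟩)
      exact this
  let β' := {b : β // b ≠ b₀}
  have hβ' : Fintype.card β' = Fintype.card β - 1 := by
    simp [β', Fintype.card_subtype_compl]
  let f' : B → β' := fun x => ⟨f x.1, x.2⟩
  have hf' : Function.Surjective f' := fun b => by
    obtain ⟨x, hx⟩ := hf b.1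
    exact ⟨⟨x, hx ▸ b.2⟩, Subtype.ext hx⟩
  have hm := Fintype.card_le_of_surjective f' hf'
  have h1 := bound_single (IH (Fintype.card A) (by omega)) rfl φ.range
  have h2 := IH (Fintype.card B) (by omega) B inferInstance inferInstance β' inferInstance rfl
    ψ.range f' hf' (by
      rintro _ ⟨g, rfl⟩ x
      exact Subtype.ext (hG _ (g : G).2 x.1))
  rw [← kk_congr (MonoidHom.ofInjective hψ)] at h2
  refine (kk_le_ker_range φ).trans ((Nat.mul_le_mul h2 h1).trans ?_)
  rw [← pow_add]
  exact Nat.pow_le_pow_right (by norm_num) (by omega)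

theorem bound_primitive {n : ℕ} (IH : ∀ k < n, FibreBound k) {α : Type} [Fintype α]
    [DecidableEq α] (hc : Fintype.card α = n) (hn : 5 ≤ n) (G : Subgroup (Perm α))
    (hp : IsPreprimitive G α) : Nat.card (ConjClasses G) ≤ 5 ^ (n - 1) := by
  classical
  have : Nontrivial α := Fintype.one_lt_card_iff_nontrivial.mp (by omega)
  by_cases hA : alternatingGroup α ≤ G
  · have h1 := (Cfsg.Agent.S4200.result G).1
    have h2 : G.index ≤ 2 := by
      refine Nat.le_of_dvd (by norm_num) ?_
      have := Subgroup.index_dvd_of_le hA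
      rwa [alternatingGroup.index_eq_two] at this
    have h3 := (Cfsg.Agent.S4198.result n hn).2
    have h4 : Nat.card (ConjClasses (Perm α)) = Nat.card (ConjClasses (Perm (Fin n))) :=
      kk_congr (Fintype.equivFinOfCardEq hc).permCongrHom
    refine h1.trans ((Nat.mul_le_mul h2 (h4 ▸ h3)).trans ?_)
    rw [← pow_succ', show n - 2 + 1 = n - 1 by omega]
    exact Nat.pow_le_pow_left (by norm_num) _
  · obtain ⟨D, hD2, hDbase⟩ := exists_small_base G hp hA
    rw [hc] at hD2
    rcases Finset.eq_empty_or_nonempty D with rfl | hDne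
    · have : Subsingleton G := ⟨fun a b => Subtype.ext <| by
        rw [hDbase a a.2 (by simp), hDbase b b.2 (by simp)]⟩
      exact kk_le_card.trans ((Nat.card_of_subsingleton (1 : G)).le.trans (Nat.one_le_pow _ _ (by norm_num)))
    have : Nonempty D := hDne.coe_sort
    let T := {S : Finset α // S.card = D.card}
    let act : G → Finset α := fun g => D.map ⟨(g : Perm α), (g : Perm α).injective⟩
    let H : Subgroup G :=
      { carrier := {g | ∀ x, x ∈ D ↔ (g : Perm α) x ∈ D}
        one_mem' := fun x => Iff.rfl
        mul_mem' := fun {a b} ha hb x => (hb x).trans (ha _)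
        inv_mem' := fun {a} ha x => by
          have := ha ((a : Perm α)⁻¹ x)
          simpa using this.symm }
    let ρ : G ⧸ H → T := Quotient.lift (fun g => ⟨act g, Finset.card_map _⟩) (by
      intro a b hab
      have hab' : a⁻¹ * b ∈ H := QuotientGroup.leftRel_apply.mp hab
      apply Subtype.ext; ext y
      simp only [act, Finset.mem_map, Function.Embedding.coeFn_mk]
      constructor
      · rintro ⟨x, hx, rfl⟩
        refine ⟨(b : Perm α)⁻¹ ((a : Perm α) x), ?_, by simp⟩
        rw [hab']; simpa using hx
      · rintro ⟨x, hx, rfl⟩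
        refine ⟨(a : Perm α)⁻¹ ((b : Perm α) x), ?_, by simp⟩
        simpa using (hab' x).mp hx)
    have hρ : Function.Injective ρ := by
      intro a b
      induction a using Quotient.inductionOn with
      | h a =>
        induction b using Quotient.inductionOn with
        | h b =>
          intro h
          have h' : act a = act b := congrArg Subtype.val h
          apply Quotient.sound
          apply QuotientGroup.leftRel_apply.mpr
          intro x
          have := Finset.ext_iff.mp h' ((b : Perm α) x)
          simp only [act, Finset.mem_map, Function.Embedding.coeFn_mk] at this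
          constructor
          · intro hx
            obtain ⟨y, hy, he⟩ := this.mpr ⟨x, hx, rfl⟩
            simp [← he, hy]
          · intro hx
            simp only [Subgroup.coe_mul, Subgroup.coe_inv, Perm.mul_apply] at hx
            obtain ⟨y, hy, he⟩ := this.mp ⟨_, hx, by simp⟩
            rwa [← (b : Perm α).injective he]
    have hidx : H.index ≤ 2 ^ n := by
      refine (Nat.card_le_card_of_injective ρ hρ).trans ?_
      rw [Nat.card_eq_fintype_card, Fintype.card_finset_len, hc]
      exact Nat.choose_le_two_pow _ _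
    let θ : H →* Perm D := MonoidHom.mk'
      (fun g => ((g : G) : Perm α).subtypePerm (fun x => (g.2 x).symm))
      (fun g h => by ext x; rfl)
    have hθ : Function.Injective θ := by
      refine (injective_iff_map_eq_one θ).mpr fun g hg => ?_
      exact Subtype.ext (Subtype.ext (hDbase _ (g : G).2 fun x hx =>
        congrArg Subtype.val (Equiv.congr_fun hg ⟨x, hx⟩)))
    have hk := bound_single (IH (Fintype.card D) (by rw [Fintype.card_coe]; omega)) rfl θ.range
    rw [← kk_congr (MonoidHom.ofInjective hθ), Fintype.card_coe] at hk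
    refine ((Cfsg.Agent.S4200.result H).2.1).trans ((Nat.mul_le_mul hidx hk).trans ?_)
    have key : 2 ^ n ≤ 5 ^ (n - D.card) := by
      have h45 : 4 ^ n ≤ 5 ^ (2 * (n - D.card)) :=
        (Nat.pow_le_pow_left (by norm_num : 4 ≤ 5) n).trans
          (Nat.pow_le_pow_right (by norm_num) (by omega))
      rw [show (4 : ℕ) = 2 ^ 2 by norm_num, ← pow_mul, mul_comm 2 n, pow_mul,
        mul_comm 2 (n - D.card), pow_mul] at h45
      exact (Nat.pow_le_pow_iff_left (by norm_num)).mp h45
    refine (Nat.mul_le_mul_right _ key).trans ?_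
    rw [← pow_add]
    have := hDne.card_pos
    exact Nat.pow_le_pow_right (by norm_num) (by omega)

theorem fibreBound (n : ℕ) : FibreBound n := by
  induction n using Nat.strong_induction_on with
  | _ n IH =>
    intro α _ _ β _ hc G f hf hG
    classical
    have hβn := Fintype.card_le_of_surjective f hf
    rcases Nat.lt_or_ge (Fintype.card β) 2 with hβ | hβ
    swap
    · exact bound_split IH hc G f hf hG hβ
    rcases Nat.eq_zero_or_pos n with hn0 | hn0
    · have : IsEmpty α := Fintype.card_eq_zero_iff.mp (hc.trans hn0)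
      have : Subsingleton G := inferInstance
      exact kk_le_card.trans ((Nat.card_of_subsingleton (1 : G)).le.trans (Nat.one_le_pow _ _ (by norm_num)))
    have hne : Nonempty α := Fintype.card_pos_iff.mp (hc ▸ hn0)
    refine le_trans ?_ (Nat.pow_le_pow_right (by norm_num) (show n - 1 ≤ n - Fintype.card β by
      omega))
    rcases Nat.lt_or_ge n 5 with hn | hn
    · refine kk_le_card.trans ((Subgroup.card_le_card_group G).trans ?_)
      rw [Nat.card_perm, Nat.card_eq_fintype_card, hc]
      interval_cases n <;> decide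
    by_cases ht : IsPretransitive G α
    swap
    · let q : α → MulAction.orbitRel.Quotient G α := Quotient.mk''
      have hq : 2 ≤ Fintype.card (MulAction.orbitRel.Quotient G α) := by
        by_contra! h
        refine ht ⟨fun x y => ?_⟩
        have : q y = q x := Fintype.card_le_one_iff.mp (by omega) _ _
        exact Quotient.eq''.mp this
      refine le_trans (bound_split IH hc G q Quotient.mk''_surjective (fun g hg x => ?_) hq) ?_
      · exact Quotient.sound' (show g x ∈ MulAction.orbit G x from ⟨⟨g, hg⟩, rfl⟩)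
      · exact Nat.pow_le_pow_right (by norm_num) (by omega)
    by_cases hp : IsPreprimitive G α
    · exact bound_primitive IH hc hn G hp
    obtain ⟨B, hB, hBt⟩ : ∃ B : Set α, IsBlock G B ∧ ¬ IsTrivialBlock B := by
      by_contra! h
      exact hp { isTrivialBlock_of_isBlock := fun {B} hB => h B hB }
    rw [IsTrivialBlock, not_or] at hBt
    obtain ⟨x₀, hx₀, y₀, hy₀, hxy⟩ := Set.not_subsingleton_iff.mp hBt.1
    obtain ⟨z₀, hz₀⟩ := (Set.ne_univ_iff_exists_notMem B).mp hBt.2
    let r : Setoid α :=
      { r := fun x y => ∀ g : G, g • x ∈ B ↔ g • y ∈ B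
        iseqv := ⟨fun _ _ => Iff.rfl, fun h g => (h g).symm, fun h h' g => (h g).trans (h' g)⟩ }
    let γ := Quotient r
    have hinv : ∀ (g : G) (x y : α), r x y → r (g • x) (g • y) := fun g x y h k => by
      simpa [mul_smul] using h (k * g)
    let φ : G →* Perm γ := MonoidHom.mk'
      (fun g =>
        { toFun := Quotient.map (g • ·) (fun x y h => hinv g x y h)
          invFun := Quotient.map (g⁻¹ • ·) (fun x y h => hinv g⁻¹ x y h)
          left_inv := fun q => Quotient.inductionOn q fun x => by simp
          right_inv := fun q => Quotient.inductionOn q fun x => by simp })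
      (fun g h => by
        ext q
        induction q using Quotient.inductionOn with
        | h x => simp [mul_smul])
    have hγ2 : 2 ≤ Fintype.card γ := by
      refine Fintype.one_lt_card_iff.mpr ⟨⟦x₀⟧, ⟦z₀⟧, fun h => hz₀ ?_⟩
      simpa using (Quotient.exact h (1 : G)).mp (by simpa using hx₀)
    have hrel : r x₀ y₀ := fun g => by
      have key : ∀ {u v : α}, u ∈ B → v ∈ B → g • u ∈ B → g • v ∈ B := by
        intro u v hu hv hgu
        have he : g • B = B := hB.smul_eq_of_nonempty
          ⟨g • u, Set.smul_mem_smul_set hu, hgu⟩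
        exact he ▸ Set.smul_mem_smul_set hv
      exact ⟨key hx₀ hy₀, key hy₀ hx₀⟩
    have hγn : Fintype.card γ < n := hc ▸ Fintype.card_lt_of_surjective_not_injective
      (Quotient.mk r) Quotient.mk_surjective (fun h => hxy (h (Quotient.sound hrel)))
    have h2 : Nat.card (ConjClasses φ.ker) ≤ 5 ^ (n - Fintype.card γ) := by
      rw [kk_congr (Subgroup.equivMapOfInjective φ.ker G.subtype G.subtype_injective)]
      refine bound_split IH hc (φ.ker.map G.subtype) (Quotient.mk r) Quotient.mk_surjective
        ?_ hγ2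
      rintro _ ⟨g, hg, rfl⟩ x
      exact Equiv.congr_fun hg ⟦x⟧
    have : Nonempty γ := ⟨⟦x₀⟧⟩
    have h1 := bound_single (IH _ hγn) rfl φ.range
    refine (kk_le_ker_range φ).trans ((Nat.mul_le_mul h2 h1).trans ?_)
    rw [← pow_add]
    exact Nat.pow_le_pow_right (by norm_num) (by omega)

end Cfsg.Agent.ClassCount
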