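import Cfsg.Agent.ClassCount.Basic

/-!
The bound `k_π(G) ≤ k_p(G) · |G|_{π∖p}` and its consequence `k_π(G) ≤ |G|_π`.
-/

namespace Cfsg.Agent.ClassCount

open Subgroup

/-- The `π`-part of the order of `G`. -/
noncomputable def piPart (π : Finset ℕ) (G : Type*) [Group G] : ℕ :=
  π.prod fun r => r ^ (Nat.card G).factorization r

variable {G : Type*} [Group G] [Finite G]

theorem piPart_subgroup_le (π : Finset ℕ) (hπ : ∀ r ∈ π, r.Prime) (H : Subgroup G) :
    piPart π H ≤ piPart π G :=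
  Finset.prod_le_prod' fun r hr => Nat.pow_le_pow_right (hπ r hr).pos
    ((Nat.factorization_le_iff_dvd Nat.card_pos.ne' Nat.card_pos.ne').mpr
      (Subgroup.card_subgroup_dvd_card H) r)

/-- `k_π(G)` is at most the sum of the `k_{π∖p}(C(x))` over representatives of the classes of `p`-elements. -/
theorem kPi_le_sum (π : Finset ℕ) (p : ℕ) (hp : p.Prime) :
    kPi π G ≤ ∑ᶠ c : {c : ConjClasses G // ∀ x ∈ c.carrier, ∃ k : ℕ, orderOf x = p ^ k},
      kPi (π.erase p) ↥(centralizer ({c.1.out} : Set G)) := by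
  classical
  set A := {c : ConjClasses G // ∀ x ∈ c.carrier, ∃ k : ℕ, orderOf x = p ^ k}
  have := Fintype.ofFinite A
  set T := {c : ConjClasses G // ∀ x ∈ c.carrier, IsPiElt π x}
  let B : A → Type _ := fun c =>
    {d : ConjClasses ↥(centralizer ({c.1.out} : Set G)) //
      ∀ y ∈ d.carrier, IsPiElt (π.erase p) y}
  -- every π-element is conjugate to a product of the chosen representatives
  have hcover : ∀ g : G, IsPiElt π g → ∃ s : Σ c : A, B c,
      ConjClasses.mk (s.1.1.out * ((Quotient.out s.2.1 :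
        ↥(centralizer ({s.1.1.out} : Set G))) : G)) = ConjClasses.mk g := by
    intro g hg
    set n := orderOf g
    have hn : n ≠ 0 := (orderOf_pos g).ne'
    set a := n.factorization p
    set m := n / p ^ a
    have hnam : p ^ a * m = n := Nat.ordProj_mul_ordCompl_eq_self n p
    have hco : (p ^ a).Coprime m :=
      Nat.Coprime.pow_left _ (Nat.coprime_ordCompl hp hn)
    obtain ⟨u, hu1, hu2⟩ := Nat.chineseRemainder hco 1 0
    set x0 := g ^ u
    set y0 := x0⁻¹ * g
    have hcxy : Commute x0 g := (Commute.refl g).pow_left u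
    have hprod : x0 * y0 = g := mul_inv_cancel_left x0 g
    have hx0 : x0 ^ p ^ a = 1 := by
      have hmu : m ∣ u := (Nat.modEq_zero_iff_dvd).mp hu2
      obtain ⟨w, rfl⟩ := hmu
      rw [← pow_mul, show m * w * p ^ a = n * w by rw [← hnam]; ring, pow_mul,
        pow_orderOf_eq_one, one_pow]
    have hy0 : y0 ^ m = 1 := by
      have hum : u * m ≡ 1 * m [MOD n] := hnam ▸ (Nat.ModEq.mul_right' m hu1)
      rw [show y0 ^ m = (x0 ^ m)⁻¹ * g ^ m by rw [← inv_pow]; exact (hcxy.inv_left).mul_pow m,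
        ← pow_mul, pow_eq_pow_iff_modEq.mpr hum, one_mul, inv_mul_cancel]
    have hy0π : IsPiElt (π.erase p) y0 := by
      intro r hr hrd
      have h1 : r ∣ m := hrd.trans (orderOf_dvd_of_pow_eq_one hy0)
      refine Finset.mem_erase.mpr ⟨?_, hg r hr (h1.trans ⟨p ^ a, by rw [mul_comm]; exact hnam.symm⟩)⟩
      rintro rfl
      exact Nat.not_dvd_ordCompl hr hn h1
    have hx0p : ∀ x ∈ (ConjClasses.mk x0).carrier, ∃ k : ℕ, orderOf x = p ^ k := by
      rw [forall_carrier_mk_order (q := fun n => ∃ k : ℕ, n = p ^ k)]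
      obtain ⟨k, -, hk⟩ := (Nat.dvd_prime_pow hp).mp (orderOf_dvd_of_pow_eq_one hx0)
      exact ⟨k, hk⟩
    let c : A := ⟨ConjClasses.mk x0, hx0p⟩
    obtain ⟨h, hh⟩ := isConj_iff.mp
      (ConjClasses.mk_eq_mk_iff_isConj.mp (Quotient.out_eq c.1).symm)
    have hcom0 : Commute x0 y0 := (Commute.refl x0).inv_right.mul_right hcxy
    have hmem : h * y0 * h⁻¹ ∈ centralizer ({c.1.out} : Set G) := by
      rw [mem_centralizer_singleton_iff, ← hh]
      calc h * y0 * h⁻¹ * (h * x0 * h⁻¹) = h * (y0 * x0) * h⁻¹ := by group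
        _ = h * (x0 * y0) * h⁻¹ := by rw [hcom0.eq]
        _ = h * x0 * h⁻¹ * (h * y0 * h⁻¹) := by group
    let y1 : ↥(centralizer ({c.1.out} : Set G)) := ⟨h * y0 * h⁻¹, hmem⟩
    have hy1 : orderOf y1 = orderOf y0 := by
      rw [← Subgroup.orderOf_coe]
      exact (MulAut.conj h).orderOf_eq y0
    have hy1π : ∀ z ∈ (ConjClasses.mk y1).carrier, IsPiElt (π.erase p) z :=
      (forall_carrier_mk (q := IsPiElt (π.erase p)) (fun a b hab ha r hr hrd =>
        ha r hr (orderOf_eq_of_isConj hab ▸ hrd)) y1).mpr fun r hr hrd => hy0π r hr (hy1 ▸ hrd)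
    refine ⟨⟨c, ⟨ConjClasses.mk y1, hy1π⟩⟩, ?_⟩
    obtain ⟨z, hz⟩ := isConj_iff.mp
      (ConjClasses.mk_eq_mk_iff_isConj.mp (Quotient.out_eq (ConjClasses.mk y1)))
    rw [ConjClasses.mk_eq_mk_iff_isConj, isConj_iff]
    refine ⟨h⁻¹ * (z : G), ?_⟩
    set w : G := ((Quotient.out (ConjClasses.mk y1) :
        ↥(centralizer ({c.1.out} : Set G))) : G)
    have hz' : (z : G) * w * (z : G)⁻¹ = h * y0 * h⁻¹ := congrArg Subtype.val hz
    have hzc : (z : G) * c.1.out = c.1.out * (z : G) := mem_centralizer_singleton_iff.mp z.2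
    calc h⁻¹ * (z : G) * (c.1.out * w) * (h⁻¹ * (z : G))⁻¹
        = h⁻¹ * ((z : G) * c.1.out * (z : G)⁻¹) * ((z : G) * w * (z : G)⁻¹) * h := by group
      _ = h⁻¹ * (h * x0 * h⁻¹) * (h * y0 * h⁻¹) * h := by
          rw [hz', hzc, mul_inv_cancel_right, hh]
      _ = x0 * y0 := by group
      _ = g := hprod
  let S : Type _ := {s : Σ c : A, B c //
    ∀ x ∈ (ConjClasses.mk (s.1.1.out * ((Quotient.out s.2.1 :
      ↥(centralizer ({s.1.1.out} : Set G))) : G))).carrier, IsPiElt π x}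
  let f : S → T := fun s => ⟨_, s.2⟩
  have hf : Function.Surjective f := by
    rintro ⟨c, hc⟩
    obtain ⟨g, rfl⟩ := ConjClasses.exists_rep c
    obtain ⟨s, hs⟩ := hcover g (hc g ConjClasses.mem_carrier_mk)
    exact ⟨⟨s, hs ▸ hc⟩, Subtype.ext hs⟩
  calc kPi π G = Nat.card T := rfl
    _ ≤ Nat.card S := Nat.card_le_card_of_surjective f hf
    _ ≤ Nat.card (Σ c : A, B c) := Finite.card_subtype_le _
    _ = ∑ c : A, Nat.card (B c) := Nat.card_sigma
    _ = ∑ᶠ c : A, Nat.card (B c) := (finsum_eq_sum_of_fintype _).symm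

/-- `k_π(G) ≤ k_p(G) · |G|_{π∖p}`, given that `k_σ(H) ≤ |H|_σ` for `σ = π∖p` and all subgroups. -/
theorem kPi_le_kP_mul (π : Finset ℕ) (hπ : ∀ r ∈ π, r.Prime) (p : ℕ) (hp : p.Prime)
    (ih : ∀ H : Subgroup G, kPi (π.erase p) H ≤ piPart (π.erase p) H) :
    kPi π G ≤ kP p G * piPart (π.erase p) G := by
  classical
  have := Fintype.ofFinite {c : ConjClasses G // ∀ x ∈ c.carrier, ∃ k : ℕ, orderOf x = p ^ k}
  refine (kPi_le_sum π p hp).trans ?_
  rw [finsum_eq_sum_of_fintype, kP, Nat.card_eq_fintype_card]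
  refine (Finset.sum_le_sum fun c _ => (ih _).trans
    (piPart_subgroup_le _ (fun r hr => hπ r (Finset.mem_of_mem_erase hr)) _)).trans ?_
  rw [Finset.sum_const, smul_eq_mul, Finset.card_univ]

universe u

/-- `k_π(G) ≤ |G|_π`. -/
theorem kPi_le_piPart (π : Finset ℕ) : (∀ r ∈ π, r.Prime) →
    ∀ (G : Type u) [Group G] [Finite G], kPi π G ≤ piPart π G := by
  classical
  induction π using Finset.strongInduction with
  | H π ih =>
    intro hπ G _ _
    rcases π.eq_empty_or_nonempty with rfl | ⟨p, hpπ⟩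
    · simpa [piPart] using kPi_empty (G := G)
    · have := Fact.mk (hπ p hpπ)
      obtain ⟨P⟩ : Nonempty (Sylow p G) := inferInstance
      calc kPi π G ≤ kP p G * piPart (π.erase p) G :=
            kPi_le_kP_mul π hπ p (hπ p hpπ) fun H =>
              ih (π.erase p) (Finset.erase_ssubset hpπ)
                (fun r hr => hπ r (Finset.mem_of_mem_erase hr)) H
        _ ≤ p ^ (Nat.card G).factorization p * piPart (π.erase p) G :=
            Nat.mul_le_mul_right _ (P.card_eq_multiplicity ▸ kP_le_card P)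
        _ = piPart π G := Finset.mul_prod_erase π (fun r => r ^ (Nat.card G).factorization r) hpπ

end Cfsg.Agent.ClassCount
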