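import Cfsg.Agent.ClassCount.Pi
import Cfsg.Agent.Coprime.Basic
import Cfsg.Agent.Core.PCore
import Cfsg.Prelude.Def_OddOrderLocal

/-!
Many classes of `π`-elements, `2 ∈ π`: the odd primes of `π` have normal complements in the normal
`2`-complement.
-/

set_option autoImplicit false

namespace Cfsg.Agent.ClassCount

open Subgroup
open scoped Pointwise

variable {G : Type*} [Group G] [Finite G]

theorem isPiElt_of_isConj {p : ℕ} {a b : G} (h : IsConj a b) :
    (∃ k : ℕ, orderOf a = p ^ k) → ∃ k : ℕ, orderOf b = p ^ k := fun ⟨k, hk⟩ =>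
  ⟨k, orderOf_eq_of_isConj h ▸ hk⟩

/-- If every `p`-element lies in the image of `M`, then `k_p(G) ≤ k_p(M)`. -/
theorem kP_le_of_range {p : ℕ} {M : Type*} [Group M] [Finite M] (ι : M →* G)
    (hι : Function.Injective ι) (h : ∀ g : G, (∃ k : ℕ, orderOf g = p ^ k) → g ∈ ι.range) :
    kP p G ≤ kP p M := by
  refine Nat.card_le_card_of_surjective
    (fun c : {c : ConjClasses M // ∀ x ∈ c.carrier, ∃ k : ℕ, orderOf x = p ^ k} =>
      (⟨ConjClasses.mk (ι c.1.out), ?_⟩ :
        {c : ConjClasses G // ∀ x ∈ c.carrier, ∃ k : ℕ, orderOf x = p ^ k})) ?_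
  · rw [forall_carrier_mk_order (q := fun n => ∃ k : ℕ, n = p ^ k), orderOf_injective ι hι]
    exact c.2 _ (ConjClasses.mem_carrier_iff_mk_eq.2 (Quotient.out_eq c.1))
  · rintro ⟨d, hd⟩
    obtain ⟨g, rfl⟩ := ConjClasses.exists_rep d
    obtain ⟨x, rfl⟩ := h g (hd g ConjClasses.mem_carrier_mk)
    have hx := hd (ι x) ConjClasses.mem_carrier_mk
    rw [orderOf_injective ι hι] at hx
    refine ⟨⟨ConjClasses.mk x, (forall_carrier_mk_order (q := fun n => ∃ k : ℕ, n = p ^ k) x).2 hx⟩, ?_⟩
    refine Subtype.ext (ConjClasses.mk_eq_mk_iff_isConj.2 ?_)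
    exact ι.map_isConj (ConjClasses.mk_eq_mk_iff_isConj.1 (Quotient.out_eq (ConjClasses.mk x)))

theorem mem_sylow_of_mem_normalizer {p : ℕ} [hp : Fact p.Prime] (P : Sylow p G) {g : G}
    (hg : g ∈ normalizer ((P : Subgroup G) : Set G)) (hgp : ∃ k : ℕ, orderOf g = p ^ k) :
    g ∈ (P : Subgroup G) := by
  obtain ⟨k, hk⟩ := hgp
  have h : IsPGroup p ((P : Subgroup G) ⊔ zpowers g : Subgroup G) :=
    P.2.to_sup_of_normal_left' (IsPGroup.of_card (n := k) (by rw [Nat.card_zpowers, hk]))
      (zpowers_le.2 hg)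
  rw [← P.3 h le_sup_left]
  exact mem_sup_right (mem_zpowers g)

/-- In a group of odd order, more than `|P|/2` classes of `p`-elements force an abelian Sylow
subgroup that is central in its normaliser. -/
theorem odd_many_classes {p : ℕ} [hp : Fact p.Prime] (hodd : Odd (Nat.card G)) (P : Sylow p G)
    (h : Nat.card (P : Subgroup G) < 2 * kP p G) :
    IsMulCommutative (P : Subgroup G) ∧
      normalizer ((P : Subgroup G) : Set G) ≤ centralizer ((P : Subgroup G) : Set G) := by
  classical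
  set n := Nat.card (P : Subgroup G) with hn
  have hnpos : 0 < n := Nat.card_pos
  rcases eq_or_ne (P : Subgroup G) ⊥ with hP | hP
  · refine ⟨by rw [hP]; infer_instance, fun g _ => mem_centralizer_iff.2 fun x hx => ?_⟩
    rw [hP, SetLike.mem_coe, mem_bot] at hx
    simp [hx]
  have hp2 : p ≠ 2 := by
    rintro rfl
    have hd : 2 ∣ Nat.card G := by
      obtain ⟨j, hj⟩ := IsPGroup.iff_card.1 P.2
      refine (dvd_pow_self 2 (fun h0 => hP (card_eq_one.1 ?_))).trans (hj ▸ card_subgroup_dvd_card _)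
      rw [hj, h0, pow_zero]
    exact Nat.not_even_iff_odd.2 hodd (even_iff_two_dvd.2 hd)
  have hp3 : 3 ≤ p := by have := hp.out.two_le; omega
  have hcomm : IsMulCommutative (P : Subgroup G) := by
    by_contra hna
    set Z : Subgroup G := (center (P : Subgroup G)).map (P : Subgroup G).subtype with hZ
    have hfib : ∀ x ∈ (P : Subgroup G), x ∉ Z →
        p ≤ Nat.card {y : (P : Subgroup G) // IsConj x (y : G)} := by
      intro x hx hxZ
      set xp : (P : Subgroup G) := ⟨x, hx⟩
      have h1 : ¬ (centralizer ({xp} : Set (P : Subgroup G))).index = 1 := by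
        rw [index_eq_one, centralizer_eq_top_iff_subset]
        simpa using fun hc => hxZ ⟨xp, hc, rfl⟩
      obtain ⟨j, hj⟩ := P.2.index (centralizer ({xp} : Set (P : Subgroup G)))
      have h2 : p ≤ (centralizer ({xp} : Set (P : Subgroup G))).index := by
        rcases Nat.eq_zero_or_pos j with rfl | hj0
        · exact absurd (by simpa using hj) h1
        · rw [hj]; exact Nat.le_self_pow hj0.ne' p
      refine h2.trans ?_
      let φ : ↥(P : Subgroup G) ⧸ centralizer ({xp} : Set (P : Subgroup G)) →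
          {y : (P : Subgroup G) // IsConj x (y : G)} := fun q =>
        ⟨q.out * xp * q.out⁻¹, isConj_iff.mpr ⟨(q.out : G), rfl⟩⟩
      refine Nat.card_le_card_of_injective φ fun q q' hqq => ?_
      have he : q.out * xp * q.out⁻¹ = q'.out * xp * q'.out⁻¹ := congrArg Subtype.val hqq
      rw [← q.out_eq', ← q'.out_eq', QuotientGroup.eq, mem_centralizer_singleton_iff]
      calc q.out⁻¹ * q'.out * xp
          = q.out⁻¹ * (q'.out * xp * q'.out⁻¹) * q'.out := by group
        _ = q.out⁻¹ * (q.out * xp * q.out⁻¹) * q'.out := by rw [he]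
        _ = xp * (q.out⁻¹ * q'.out) := by group
    have hk := mul_kP_le P Z (map_subtype_le _) p hfib
    obtain ⟨j, hj⟩ := P.2.index (center (P : Subgroup G))
    have hmulc := card_mul_index (center (P : Subgroup G))
    rw [hj, ← card_map_of_injective (P : Subgroup G).subtype_injective, ← hZ, ← hn] at hmulc
    have hj2 : 2 ≤ j := by
      by_contra hlt
      refine hna ?_
      have hc : Nat.card ((P : Subgroup G) ⧸ center (P : Subgroup G)) = p ^ j := hj
      have hcyc : IsCyclic ((P : Subgroup G) ⧸ center (P : Subgroup G)) := by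
        rcases (show j = 0 ∨ j = 1 by omega) with rfl | rfl
        · have := (Nat.card_eq_one_iff_unique.mp (hc.trans (pow_zero p))).1
          infer_instance
        · exact isCyclic_of_prime_card (hc.trans (pow_one p))
      exact MonoidHom.isMulCommutative_of_isCyclic_of_ker_le_center
        (QuotientGroup.mk' (center (P : Subgroup G))) (QuotientGroup.ker_mk' _).le
    have hle : Nat.card Z * p ^ 2 ≤ n :=
      hmulc ▸ Nat.mul_le_mul_left _ (Nat.pow_le_pow_right (by omega) hj2)
    obtain ⟨p', rfl⟩ : ∃ p' : ℕ, p = p' + 3 := ⟨p - 3, by omega⟩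
    simp only [show p' + 3 - 1 = p' + 2 by omega] at hk
    nlinarith [Nat.mul_le_mul_left (p' + 2) hle, Nat.zero_le (p' ^ 3 * n),
      Nat.zero_le (p' ^ 2 * n), Nat.zero_le (p' * n), Nat.mul_le_mul_left ((p' + 3) ^ 2) h.le]
  refine ⟨hcomm, ?_⟩
  set N := normalizer ((P : Subgroup G) : Set G) with hN
  set C := (P : Subgroup G) ⊓ centralizer (N : Set G) with hC
  suffices hCP : C = P by
    intro g hg
    refine mem_centralizer_iff.2 fun x hx => ?_
    have hxC : x ∈ C := hCP.symm ▸ hx
    exact (mem_centralizer_iff.1 hxC.2 g hg).symm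
  by_contra hne
  have hfix : ∀ g : G, ∀ x : G, g * g * x * (g * g)⁻¹ = x → g * x * g⁻¹ = x := by
    intro g x hgx
    obtain ⟨r, hr⟩ := (hodd.of_dvd_nat (orderOf_dvd_natCard g)).add_one
    have hgr : (g * g) ^ r = g := by
      rw [← pow_two, ← pow_mul, show 2 * r = orderOf g + 1 by omega, pow_succ, pow_orderOf_eq_one, one_mul]
    have h1 : Commute ((g * g) ^ r) x := (show Commute (g * g) x from mul_inv_eq_iff_eq_mul.1 hgx).pow_left r
    rw [hgr] at h1
    exact mul_inv_eq_iff_eq_mul.2 h1.eq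
  have hmove : ∀ x ∈ (P : Subgroup G), x ∉ C → ∃ g ∈ N, g * x * g⁻¹ ≠ x := by
    intro x hx hxC
    by_contra hall
    push Not at hall
    exact hxC ⟨hx, mem_centralizer_iff.2 fun g hg => mul_inv_eq_iff_eq_mul.1 (hall g hg)⟩
  have hfib : ∀ x ∈ (P : Subgroup G), x ∉ C →
      3 ≤ Nat.card {y : (P : Subgroup G) // IsConj x (y : G)} := by
    intro x hx hxC
    obtain ⟨g, hg, hgx⟩ := hmove x hx hxC
    have hPm : ∀ g ∈ N, g * x * g⁻¹ ∈ (P : Subgroup G) := fun g hg => (mem_normalizer_iff.1 hg x).1 hx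
    let f : Fin 3 → {y : (P : Subgroup G) // IsConj x (y : G)} :=
      ![⟨⟨x, hx⟩, IsConj.refl x⟩, ⟨⟨g * x * g⁻¹, hPm g hg⟩, isConj_iff.2 ⟨g, rfl⟩⟩,
        ⟨⟨g * g * x * (g * g)⁻¹, hPm _ (mul_mem hg hg)⟩, isConj_iff.2 ⟨g * g, rfl⟩⟩]
    have h12 : g * g * x * (g * g)⁻¹ ≠ g * x * g⁻¹ := fun e => hgx (by
      refine (MulAut.conj g).injective ?_
      show g * (g * x * g⁻¹) * g⁻¹ = g * x * g⁻¹
      rw [show g * (g * x * g⁻¹) * g⁻¹ = g * g * x * (g * g)⁻¹ by group]
      exact e)
    have h02 : g * g * x * (g * g)⁻¹ ≠ x := fun e => hgx (hfix g x e)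
    have hf : Function.Injective f := by
      intro a b hab
      have hv := congrArg (fun y => ((y.1 : (P : Subgroup G)) : G)) hab
      fin_cases a <;> fin_cases b <;>
        simp only [f, Matrix.cons_val_zero, Matrix.cons_val_one, Matrix.cons_val, Fin.isValue,
          Fin.zero_eta, Fin.mk_one, Fin.reduceFinMk] at hv ⊢ <;>
        first | rfl | exact absurd hv hgx | exact absurd hv.symm hgx | exact absurd hv h02 |
          exact absurd hv.symm h02 | exact absurd hv h12 | exact absurd hv.symm h12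
    simpa using Nat.card_le_card_of_injective f hf
  have hk := mul_kP_le P C inf_le_left 3 hfib
  obtain ⟨j, hj⟩ := P.2.index (C.subgroupOf (P : Subgroup G))
  have hmulc := card_mul_index (C.subgroupOf (P : Subgroup G))
  rw [hj, Nat.card_congr (subgroupOfEquivOfLe (show C ≤ P from inf_le_left)).toEquiv, ← hn] at hmulc
  rcases Nat.eq_zero_or_pos j with rfl | hj0
  · exact hne (le_antisymm inf_le_left (subgroupOf_eq_top.mp (index_eq_one.mp (hj.trans (pow_zero p)))))
  have hidx : 5 ≤ p ^ j := by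
    by_contra hlt
    have h1 := Nat.le_self_pow hj0.ne' p
    obtain rfl : p = 3 := by
      rcases Nat.lt_or_ge p 4 with h4 | h4
      · omega
      · exfalso
        have : p = 4 := by omega
        exact absurd (this ▸ hp.out) (by decide)
    obtain rfl : j = 1 := by
      by_contra hne'
      have := Nat.pow_le_pow_right (show 0 < 3 by decide) (show 2 ≤ j by omega)
      omega
    -- an odd-order automorphism of a group of order three is trivial
    obtain ⟨x, hx, hxC⟩ := SetLike.not_le_iff_exists.1 fun hle => hne (le_antisymm inf_le_left hle)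
    obtain ⟨g, hg, hgx⟩ := hmove x hx hxC
    set Q := (P : Subgroup G) with hQ
    letI : CommGroup Q := { (inferInstance : Group Q) with mul_comm := hcomm.is_comm.comm }
    set Cq := C.subgroupOf Q
    have hcard3 : Nat.card (Q ⧸ Cq) = 3 := by rw [← index_eq_card, hj, pow_one]
    -- `h = g * g` fixes `x` modulo `C`
    have hstab : ∀ g ∈ N, ∀ c ∈ C, g * c * g⁻¹ = c := fun g hg c hc =>
      mul_inv_eq_iff_eq_mul.2 (mem_centralizer_iff.1 hc.2 g hg)
    have hd : g * g * x * (g * g)⁻¹ * x⁻¹ ∈ C := by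
      have hgm : g * x * g⁻¹ ∈ Q := (mem_normalizer_iff.1 hg x).1 hx
      have hx0 : (QuotientGroup.mk (⟨x, hx⟩ : Q) : Q ⧸ Cq) ≠ 1 := fun e =>
        hxC (mem_subgroupOf.1 ((QuotientGroup.eq_one_iff _).1 e))
      haveI : Fact (Nat.Prime 3) := ⟨Nat.prime_three⟩
      obtain ⟨k, hk⟩ := mem_zpowers_iff.1 (mem_zpowers_of_prime_card hcard3 hx0
        (g' := (QuotientGroup.mk (⟨g * x * g⁻¹, hgm⟩ : Q) : Q ⧸ Cq)))
      rw [← QuotientGroup.mk_zpow, QuotientGroup.eq] at hk
      set c : G := (x ^ k)⁻¹ * (g * x * g⁻¹) with hc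
      have hcC : c ∈ C := mem_subgroupOf.1 hk
      have hk3 : ¬ (3 : ℤ) ∣ k := fun ⟨w, hw⟩ => by
        have h3 : (⟨x, hx⟩ : Q) ^ (3 : ℕ) ∈ Cq := by
          rw [← QuotientGroup.eq_one_iff, QuotientGroup.mk_pow, ← hcard3]
          exact pow_card_eq_one'
        have hxk : x ^ k ∈ C := by
          rw [hw, zpow_mul, show x ^ (3 : ℤ) = x ^ (3 : ℕ) from zpow_natCast x 3]
          exact zpow_mem (mem_subgroupOf.1 h3) w
        have hgC : g * x * g⁻¹ ∈ C := by
          rw [show g * x * g⁻¹ = x ^ k * c by rw [hc, mul_inv_cancel_left]]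
          exact mul_mem hxk hcC
        have hxC' := hstab g⁻¹ (inv_mem hg) _ hgC
        rw [inv_inv, show g⁻¹ * (g * x * g⁻¹) * g = x by group] at hxC'
        exact hxC (hxC' ▸ hgC)
      have he : g * x * g⁻¹ = x ^ k * c := by rw [hc, mul_inv_cancel_left]
      clear_value c
      have he2 : g * g * x * (g * g)⁻¹ = x ^ (k * k) * c ^ k * c := by
        have hcx : Commute (x ^ k) c := congrArg Subtype.val
          (hcomm.is_comm.comm ((⟨x, hx⟩ : Q) ^ k) ⟨c, hcC.1⟩)
        calc g * g * x * (g * g)⁻¹ = g * (g * x * g⁻¹) * g⁻¹ := by group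
          _ = g * x ^ k * g⁻¹ * (g * c * g⁻¹) := by rw [he]; group
          _ = _ := by rw [← conj_zpow, he, hstab g hg c hcC, hcx.mul_zpow, ← zpow_mul]
      obtain ⟨w, hw⟩ : (3 : ℤ) ∣ k * k - 1 := by
        rcases (by omega : k % 3 = 1 ∨ k % 3 = 2) with h | h <;>
          exact Int.dvd_of_emod_eq_zero (by rw [Int.sub_emod, Int.mul_emod, h]; norm_num)
      have hcommP : ∀ a ∈ Q, ∀ b ∈ Q, a * b = b * a := fun a ha b hb =>
        congrArg Subtype.val (hcomm.is_comm.comm (⟨a, ha⟩ : Q) ⟨b, hb⟩)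
      rw [he2, hcommP _ (Q.mul_mem (Q.mul_mem (Q.zpow_mem hx _) (Q.zpow_mem hcC.1 _)) hcC.1) _ (Q.inv_mem hx),
        ← mul_assoc, ← mul_assoc, ← zpow_neg_one, ← zpow_add, show -1 + k * k = (3 : ℤ) * w by
          linear_combination hw, zpow_mul, show x ^ (3 : ℤ) = x ^ (3 : ℕ) from zpow_natCast x 3]
      refine mul_mem (mul_mem (zpow_mem ?_ w) (zpow_mem hcC k)) hcC
      have h3 : (⟨x, hx⟩ : Q) ^ (3 : ℕ) ∈ Cq := by
        rw [← QuotientGroup.eq_one_iff, QuotientGroup.mk_pow, ← hcard3]
        exact pow_card_eq_one'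
      exact mem_subgroupOf.1 h3
    set h := g * g with hh
    set d := h * x * h⁻¹ * x⁻¹ with hddef
    have hhN : h ∈ N := mul_mem hg hg
    have hiter : ∀ i : ℕ, h ^ i * x * (h ^ i)⁻¹ = d ^ i * x := by
      intro i
      induction i with
      | zero => simp
      | succ i ih =>
        rw [pow_succ' h, mul_inv_rev, show h * h ^ i * x * ((h ^ i)⁻¹ * h⁻¹) = h * (h ^ i * x * (h ^ i)⁻¹) * h⁻¹ by group,
          ih, show h * (d ^ i * x) * h⁻¹ = (h * d * h⁻¹) ^ i * (h * x * h⁻¹) by rw [conj_pow]; group,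
          hstab h hhN d hd, show h * x * h⁻¹ = d * x by rw [hddef, inv_mul_cancel_right], ← mul_assoc, ← pow_succ]
    obtain ⟨a, m, hm, ham⟩ := Nat.exists_eq_pow_mul_and_not_dvd (orderOf_pos h).ne' 3 (by decide)
    have hhm : h ^ m ∈ Q := by
      refine mem_sylow_of_mem_normalizer P (pow_mem hhN m) ?_
      obtain ⟨l, -, hl⟩ := (Nat.dvd_prime_pow Nat.prime_three).1
        (show orderOf (h ^ m) ∣ 3 ^ a from orderOf_dvd_of_pow_eq_one (by
          rw [← pow_mul, mul_comm, ← ham, pow_orderOf_eq_one]))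
      exact ⟨l, hl⟩
    have hdm : d ^ m = 1 := by
      have h1 := hiter m
      have h2 : h ^ m * x * (h ^ m)⁻¹ = x := mul_inv_eq_iff_eq_mul.2
        (congrArg Subtype.val (hcomm.is_comm.comm (⟨h ^ m, hhm⟩ : Q) ⟨x, hx⟩))
      rw [h2] at h1
      exact mul_eq_right.1 h1.symm
    obtain ⟨l, hl⟩ := IsPGroup.iff_orderOf.1 P.2 ⟨d, hd.1⟩
    rw [orderOf_mk] at hl
    have hd1 : d = 1 := orderOf_eq_one_iff.1 (Nat.eq_one_of_dvd_coprimes
      (Nat.Coprime.pow_left l ((Nat.prime_three.coprime_iff_not_dvd).2 hm)) hl.dvd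
      (orderOf_dvd_of_pow_eq_one hdm))
    refine hgx (hfix g x ?_)
    rw [hddef, mul_inv_eq_one] at hd1
    exact hd1
  nlinarith

section weighted

variable {p : ℕ} [hp : Fact p.Prime] (K : Subgroup G) [K.Normal]

/-- A `p`-element of a group with a normal `2`-complement lies in the complement, `p` odd. -/
theorem mem_of_pElt (hp2 : p ≠ 2) {a : ℕ} (hK : K.index = 2 ^ a) {g : G}
    (hg : ∃ k : ℕ, orderOf g = p ^ k) : g ∈ K := by
  obtain ⟨k, hk⟩ := hg
  rw [← QuotientGroup.eq_one_iff]
  exact orderOf_eq_one_iff.1 (Nat.eq_one_of_dvd_coprimes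
    (Nat.Coprime.pow k a ((Nat.coprime_primes hp.out Nat.prime_two).2 hp2))
    (hk ▸ orderOf_map_dvd (QuotientGroup.mk' K) g) (hK ▸ orderOf_dvd_natCard (g : G ⧸ K)))

/-- With many classes, `K` has a normal `p`-complement with abelian quotient. -/
theorem exists_pComplement_of_many (hp2 : p ≠ 2) (S : Sylow 2 G) (hKodd : Odd (Nat.card K))
    {a : ℕ} (hK : K.index = 2 ^ a)
    (h : Nat.card (S : Subgroup G) * p ^ (Nat.card G).factorization p <
      2 * ∑ᶠ c : {c : ConjClasses G // ∀ x ∈ c.carrier, ∃ k : ℕ, orderOf x = 2 ^ k},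
        kP p ↥(centralizer ({c.1.out} : Set G))) :
    ∃ N : Subgroup G, N.Normal ∧ N ≤ K ∧ ¬ p ∣ Nat.card N ∧ (∃ j : ℕ, N.relIndex K = p ^ j) ∧
      ∀ x ∈ K, ∀ y ∈ K, x * y * x⁻¹ * y⁻¹ ∈ N := by
  classical
  haveI : Fact (Nat.Prime 2) := ⟨Nat.prime_two⟩
  set Sg := (S : Subgroup G) with hSg
  have hcop : (Nat.card Sg).Coprime (Nat.card K) := by
    obtain ⟨e, he⟩ := IsPGroup.iff_card.1 S.2
    rw [he]
    exact Nat.Coprime.pow_left e hKodd.coprime_two_left
  have hSsol : Group.IsSolvable Sg := by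
    haveI := S.2.isNilpotent
    infer_instance
  obtain ⟨PK, hPK⟩ := Coprime.exists_invariant_sylow (A := Sg) (K := K) le_normalizer_of_normal hcop
    (Or.inl hSsol) p
  set Q := (PK : Subgroup K).map K.subtype with hQ
  have hQp : IsPGroup p Q := PK.2.map _
  set n := p ^ (Nat.card G).factorization p with hn
  have hQcard : Nat.card Q = n := by
    rw [hQ, card_map_of_injective K.subtype_injective, PK.card_eq_multiplicity, hn,
      ← card_mul_index K, hK, Nat.factorization_mul Nat.card_pos.ne' (by simp),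
      Finsupp.add_apply, Nat.Prime.factorization_pow Nat.prime_two, Finsupp.single_eq_of_ne hp2, add_zero]
  set S₁ := Sg ⊓ centralizer (Q : Set G) with hS₁
  let k : G → ℕ := fun s => kP p ↥(centralizer ({s} : Set G))
  have hkconj : ∀ {s t : G}, IsConj s t → k s = k t := by
    have hle : ∀ {s t : G}, IsConj s t → k t ≤ k s := fun {s t} hst => by
      obtain ⟨g, hg⟩ := isConj_iff.1 hst
      have hmem : ∀ x : centralizer ({s} : Set G), MulAut.conj g (x : G) ∈ centralizer ({t} : Set G) :=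
        fun x => mem_centralizer_singleton_iff.2 (by
          rw [← hg]
          exact ((show Commute (x : G) s from mem_centralizer_singleton_iff.1 x.2).map
            (MulAut.conj g).toMonoidHom).eq)
      refine kP_le_of_range (((MulAut.conj g).toMonoidHom.comp (centralizer ({s} : Set G)).subtype).codRestrict
        (centralizer ({t} : Set G)) hmem) (fun x y e => Subtype.ext ((MulAut.conj g).injective
          (congrArg Subtype.val e))) fun y _ => ?_
      have hm : g⁻¹ * (y : G) * g ∈ centralizer ({s} : Set G) := mem_centralizer_singleton_iff.2 (by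
        have h2 := ((show Commute (y : G) t from mem_centralizer_singleton_iff.1 y.2).map
          (MulAut.conj g⁻¹).toMonoidHom).eq
        simpa [← hg, mul_assoc] using h2)
      exact ⟨⟨_, hm⟩, Subtype.ext (by simp [mul_assoc])⟩
    intro s t hst
    exact le_antisymm (hle hst.symm) (hle hst)
  -- a Sylow subgroup of a centraliser, and the bounds on the number of classes
  have hbound : ∀ s : G, ∀ T : Sylow p ↥(centralizer ({s} : Set G)),
      Nat.card (T : Subgroup ↥(centralizer ({s} : Set G))) ≤ n := fun s T => by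
    rw [T.card_eq_multiplicity, hn]
    exact Nat.pow_le_pow_right hp.out.pos
      ((Nat.factorization_le_iff_dvd Nat.card_pos.ne' Nat.card_pos.ne').2 (card_subgroup_dvd_card _) p)
  have hkle : ∀ s : G, k s ≤ n := fun s => by
    obtain ⟨T⟩ : Nonempty (Sylow p ↥(centralizer ({s} : Set G))) := inferInstance
    exact (kP_le_card T).trans (hbound s T)
  have hp3 : 3 ≤ p := by
    have := hp.out.two_le
    omega
  have hout : ∀ s ∈ Sg, s ∉ S₁ → 3 * k s ≤ n := by
    intro s hs hs₁
    obtain ⟨T⟩ : Nonempty (Sylow p ↥(centralizer ({s} : Set G))) := inferInstance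
    set T' := (T : Subgroup ↥(centralizer ({s} : Set G))).map (centralizer ({s} : Set G)).subtype with hT'
    have hTp : IsPGroup p T' := T.2.map _
    have hTK : T' ≤ K := fun x hx => by
      obtain ⟨j, hj⟩ := IsPGroup.iff_orderOf.1 hTp ⟨x, hx⟩
      exact mem_of_pElt (p := p) K hp2 hK ⟨j, by rwa [orderOf_mk] at hj⟩
    obtain ⟨l, hl⟩ := IsPGroup.iff_card.1 hTp
    have hTn : Nat.card T' ≤ n := by
      rw [hT', card_map_of_injective (centralizer ({s} : Set G)).subtype_injective]; exact hbound s T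
    have hne : Nat.card T' ≠ n := by
      intro he
      refine hs₁ ⟨hs, mem_centralizer_iff.2 fun x hx => ?_⟩
      let T'' : Sylow p K := Sylow.ofCard (T'.subgroupOf K) (by
        rw [Nat.card_congr (subgroupOfEquivOfLe hTK).toEquiv, he, ← hQcard, hQ,
          card_map_of_injective K.subtype_injective, PK.card_eq_multiplicity])
      have hT'' : (T'' : Subgroup K).map K.subtype = T' := by
        rw [Sylow.coe_ofCard, map_subgroupOf_eq_of_le hTK]
      have hcs : ∀ a ∈ T', s * a = a * s := by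
        rintro _ ⟨b, -, rfl⟩
        exact (mem_centralizer_singleton_iff.1 b.2).symm
      obtain ⟨c, hc, hcT⟩ := Coprime.exists_centralizer_conj_sylow (A := zpowers s) (K := K)
        le_normalizer_of_normal
        (hcop.coprime_dvd_left (by rw [Nat.card_zpowers]; exact Subgroup.orderOf_dvd_natCard _ hs))
        (Or.inl inferInstance) T'' PK (zpowers_le.2 (by
          rw [hT'', mem_normalizer_iff]
          intro a
          refine ⟨fun ha => ?_, fun ha => ?_⟩
          · rwa [hcs a ha, mul_inv_cancel_right]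
          · have h1 := hcs _ ha
            have h2 : s * a * s⁻¹ = a := by
              have h3 := congrArg (fun z => s⁻¹ * z) h1
              simpa [mul_assoc] using h3
            rwa [h2] at ha))
        (zpowers_le.2 (hPK hs))
      rw [← hcT, show ((MulAut.conj c • T'' : Sylow p K) : Subgroup K) = MulAut.conj c • (T'' : Subgroup K) from rfl] at hQ
      obtain ⟨_, ⟨b, hb, rfl⟩, rfl⟩ := (hQ ▸ hx : x ∈ _)
      have hsb : Commute s (b : G) := hcs b (hT'' ▸ mem_map_of_mem K.subtype hb)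
      have hsc : Commute s (c : G) := (mem_centralizer_iff.1 hc s (mem_zpowers s))
      exact (((hsc.mul_right hsb).mul_right hsc.inv_right).eq).symm
    have hlt : Nat.card T' < n := lt_of_le_of_ne hTn hne
    rw [hl, hn, Nat.pow_lt_pow_iff_right hp.out.one_lt] at hlt
    calc 3 * k s ≤ p * Nat.card T' := by
          refine Nat.mul_le_mul hp3 ?_
          rw [hT', card_map_of_injective (centralizer ({s} : Set G)).subtype_injective]
          exact kP_le_card T
      _ ≤ n := by rw [hl, hn, ← pow_succ']; exact Nat.pow_le_pow_right hp.out.pos hlt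
  have hin : ∀ s ∈ S₁, ∀ t ∈ Sg, t ∉ S₁ → t * s = s * t → 3 * k s ≤ 2 * n := by
    intro s hs t ht ht₁ hts
    have hQC : Q ≤ centralizer ({s} : Set G) := fun x hx =>
      mem_centralizer_singleton_iff.2 (mem_centralizer_iff.1 hs.2 x hx)
    let T : Sylow p ↥(centralizer ({s} : Set G)) := Sylow.ofCard (Q.subgroupOf _) (by
      refine le_antisymm ?_ ?_
      · exact Nat.le_of_dvd (pow_pos hp.out.pos _) (by
          obtain ⟨j, hj⟩ := IsPGroup.iff_card.1 (hQp.comap_subtype (K := centralizer ({s} : Set G)))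
          rw [show Q.subgroupOf (centralizer ({s} : Set G)) = Q.comap _ from rfl, hj]
          exact (pow_dvd_pow p ((hp.out.pow_dvd_iff_le_factorization Nat.card_pos.ne').1
            (hj ▸ card_subgroup_dvd_card _))))
      · rw [Nat.card_congr (subgroupOfEquivOfLe hQC).toEquiv, hQcard, hn]
        exact Nat.pow_le_pow_right hp.out.pos
          ((Nat.factorization_le_iff_dvd Nat.card_pos.ne' Nat.card_pos.ne').2 (card_subgroup_dvd_card _) p))
    have hT : (T : Subgroup ↥(centralizer ({s} : Set G))) = Q.subgroupOf _ := Sylow.coe_ofCard _ _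
    set F := (Q ⊓ centralizer ({t} : Set G)).subgroupOf (centralizer ({s} : Set G)) with hF
    have hFT : F ≤ T := hT ▸ fun x hx => hx.1
    have hk := mul_kP_le T F hFT 2 (fun x hx hxF => by
      rw [hT] at hx
      set t' : centralizer ({s} : Set G) := ⟨t, mem_centralizer_singleton_iff.2 hts⟩
      have hm : t' * x * t'⁻¹ ∈ (T : Subgroup ↥(centralizer ({s} : Set G))) := by
        rw [hT]; exact (mem_normalizer_iff.1 (hPK ht) (x : G)).1 hx
      have hnt : Nontrivial {y : (T : Subgroup ↥(centralizer ({s} : Set G))) // IsConj x (y : ↥(centralizer ({s} : Set G)))} :=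
        ⟨⟨⟨x, hT.symm ▸ hx⟩, IsConj.refl x⟩, ⟨⟨t' * x * t'⁻¹, hm⟩, isConj_iff.2 ⟨t', rfl⟩⟩, fun e => by
          have e' : (x : G) = t * x * t⁻¹ := congrArg (fun y => (((y.1 : (T : Subgroup ↥(centralizer ({s} : Set G)))) : ↥(centralizer ({s} : Set G))) : G)) e
          exact hxF ⟨hx, mem_centralizer_singleton_iff.2 (eq_mul_inv_iff_mul_eq.1 e')⟩⟩
      exact Finite.one_lt_card_iff_nontrivial.2 hnt)
    have hTc : Nat.card (T : Subgroup ↥(centralizer ({s} : Set G))) = n := by
      rw [hT, Nat.card_congr (subgroupOfEquivOfLe hQC).toEquiv, hQcard]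
    have hFlt : Nat.card F * p ≤ n := by
      rw [hF, Nat.card_congr (subgroupOfEquivOfLe ((inf_le_left : Q ⊓ centralizer ({t} : Set G) ≤ Q).trans hQC)).toEquiv,
        ← hQcard]
      obtain ⟨j, hj⟩ := hQp.index ((Q ⊓ centralizer ({t} : Set G)).subgroupOf Q)
      have hm := card_mul_index ((Q ⊓ centralizer ({t} : Set G)).subgroupOf Q)
      rw [hj, Nat.card_congr (subgroupOfEquivOfLe (inf_le_left : Q ⊓ centralizer ({t} : Set G) ≤ Q)).toEquiv] at hm
      rw [← hm]
      refine Nat.mul_le_mul_left _ (Nat.le_self_pow (fun h0 => ht₁ ⟨ht, mem_centralizer_iff.2 fun x hx => ?_⟩) p)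
      rw [h0, pow_zero] at hj
      exact mem_centralizer_singleton_iff.1 ((subgroupOf_eq_top.1 (index_eq_one.1 hj)) hx).2
    rw [hTc] at hk
    have := Nat.mul_le_mul_left (Nat.card F) hp3
    simp only [show (2 : ℕ) - 1 = 1 from rfl, one_mul] at hk
    show 3 * kP p _ ≤ 2 * n
    omega
  -- the sum over a Sylow `2`-subgroup
  set A := {c : ConjClasses G // ∀ x ∈ c.carrier, ∃ k : ℕ, orderOf x = 2 ^ k}
  haveI := Fintype.ofFinite A
  haveI := Fintype.ofFinite Sg
  rw [finsum_eq_sum_of_fintype] at h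
  let f : Sg → A := fun s => ⟨ConjClasses.mk (s : G), by
    rw [forall_carrier_mk_order (q := fun m => ∃ k : ℕ, m = 2 ^ k)]
    obtain ⟨j, hj⟩ := IsPGroup.iff_orderOf.mp S.2 s
    exact ⟨j, by rwa [Subgroup.orderOf_coe]⟩⟩
  have hf : ∀ c : A, ∃ s, f s = c := fun c => by
    obtain ⟨x, hx, hcx⟩ := exists_mem_sylow_isConj S c.1.out
      (c.2 _ (ConjClasses.mem_carrier_iff_mk_eq.2 (Quotient.out_eq c.1)))
    exact ⟨⟨x, hx⟩, Subtype.ext ((ConjClasses.mk_eq_mk_iff_isConj.2 hcx.symm).trans (Quotient.out_eq c.1))⟩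
  have hkf : ∀ s : Sg, kP p ↥(centralizer ({(f s).1.out} : Set G)) = k s := fun s =>
    hkconj (ConjClasses.mk_eq_mk_iff_isConj.1 (Quotient.out_eq (ConjClasses.mk (s : G))))
  have hall₁ : S₁ = Sg := by
    by_contra hne
    obtain ⟨t₀, ht₀, ht₀₁⟩ := SetLike.not_le_iff_exists.1 fun hle => hne (le_antisymm inf_le_left hle)
    let w : Sg → ℕ := fun s => if (s : G) ∈ S₁ then
      (if ∃ t ∈ Sg, t ∉ S₁ ∧ t * s = s * t then 4 * n else 3 * n) else 2 * n
    have hc : ∀ c : A, 6 * kP p ↥(centralizer ({c.1.out} : Set G)) ≤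
        ∑ s ∈ Finset.univ.filter (fun s => f s = c), w s := by
      intro c
      obtain ⟨s, rfl⟩ := hf c
      rw [hkf]
      have hmem : s ∈ Finset.univ.filter (fun s' => f s' = f s) :=
        Finset.mem_filter.2 ⟨Finset.mem_univ _, rfl⟩
      refine le_trans ?_ (le_trans ?_ (le_refl _)) (b := if (s : G) ∈ S₁ ∧ ¬ ∃ t ∈ Sg, t ∉ S₁ ∧ t * s = s * t
        then 6 * n else w s)
      · by_cases hs : (s : G) ∈ S₁
        · by_cases hs2 : ∃ t ∈ Sg, t ∉ S₁ ∧ t * s = s * t
          · obtain ⟨t, ht, ht₁, hts⟩ := hs2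
            have h3 := hin s hs t ht ht₁ hts
            rw [if_neg (fun h => h.2 ⟨t, ht, ht₁, hts⟩)]
            simp only [w, if_pos hs, if_pos (show ∃ t ∈ Sg, t ∉ S₁ ∧ t * s = s * t from ⟨t, ht, ht₁, hts⟩)]
            omega
          · rw [if_pos ⟨hs, hs2⟩]
            exact Nat.mul_le_mul_left 6 (hkle s)
        · rw [if_neg (fun h => hs h.1)]
          have h3 := hout s s.2 hs
          simp only [w, if_neg hs]
          omega
      · split_ifs with hs
        · have hmv : t₀ * s * t₀⁻¹ ∈ Sg := Sg.mul_mem (Sg.mul_mem ht₀ s.2) (Sg.inv_mem ht₀)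
          set s' : Sg := ⟨t₀ * s * t₀⁻¹, hmv⟩
          have hne' : s' ≠ s := fun e => hs.2 ⟨t₀, ht₀, ht₀₁,
            mul_inv_eq_iff_eq_mul.1 (congrArg Subtype.val e)⟩
          have hfs' : f s' = f s := Subtype.ext
            (ConjClasses.mk_eq_mk_iff_isConj.2 (isConj_iff.2 ⟨t₀, rfl⟩).symm)
          have hw : ∀ s'' : Sg, (s'' : G) ∈ S₁ → 3 * n ≤ w s'' := fun s'' h'' => by
            simp only [w, if_pos h'']; split_ifs <;> omega
          have hs'₁ : (s' : G) ∈ S₁ := by
            refine ⟨hmv, mem_centralizer_iff.2 fun x hx => ?_⟩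
            have hx' : t₀⁻¹ * x * t₀ ∈ Q := by
              have h4 := (mem_normalizer_iff.1 (hPK (inv_mem ht₀)) x).1 hx
              rwa [inv_inv] at h4
            have h4 := congrArg (fun z => t₀ * z * t₀⁻¹) (mem_centralizer_iff.1 hs.1.2 _ hx')
            show x * (t₀ * s * t₀⁻¹) = t₀ * s * t₀⁻¹ * x
            simpa [mul_assoc] using h4
          calc 6 * n ≤ w s' + w s := by
                have := hw s hs.1
                have := hw s' hs'₁
                omega
            _ = ∑ x ∈ ({s', s} : Finset Sg), w x := (Finset.sum_pair hne').symm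
            _ ≤ _ := Finset.sum_le_sum_of_subset (by
                intro x hx
                simp only [Finset.mem_insert, Finset.mem_singleton] at hx
                rcases hx with rfl | rfl
                · exact Finset.mem_filter.2 ⟨Finset.mem_univ _, hfs'⟩
                · exact hmem)
        · exact Finset.single_le_sum (fun i _ => Nat.zero_le (w i)) hmem
    have hsum := Finset.sum_le_sum (s := (Finset.univ : Finset A)) fun c _ => hc c
    rw [← Finset.mul_sum, Finset.sum_fiberwise_of_maps_to (fun s _ => Finset.mem_univ (f s))] at hsum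
    have hw2 : ∑ s : Sg, w s ≤ ∑ s : Sg, (if (s : G) ∈ S₁ then 4 * n else 2 * n) := Finset.sum_le_sum fun s _ => by
      simp only [w]; split_ifs <;> omega
    have hcard : (Finset.univ.filter fun s : Sg => (s : G) ∈ S₁).card = Nat.card S₁ := by
      rw [← Nat.card_congr (subgroupOfEquivOfLe (inf_le_left : S₁ ≤ Sg)).toEquiv, Nat.card_eq_fintype_card,
        Fintype.card_subtype]
      rfl
    have hhalf : 2 * Nat.card S₁ ≤ Nat.card Sg := by
      have hm := card_mul_index (S₁.subgroupOf Sg)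
      rw [Nat.card_congr (subgroupOfEquivOfLe (inf_le_left : S₁ ≤ Sg)).toEquiv] at hm
      have hi : 2 ≤ (S₁.subgroupOf Sg).index := by
        have h0 : (S₁.subgroupOf Sg).index ≠ 0 := index_ne_zero_of_finite
        have h1 : (S₁.subgroupOf Sg).index ≠ 1 := fun h1 =>
          ht₀₁ (subgroupOf_eq_top.1 (index_eq_one.1 h1) ht₀)
        omega
      rw [← hm, mul_comm 2]
      exact Nat.mul_le_mul_left _ hi
    have hw3 : (∑ s : Sg, if (s : G) ∈ S₁ then 4 * n else 2 * n) = Nat.card S₁ * (4 * n) +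
        (Finset.univ.filter fun s : Sg => (s : G) ∉ S₁).card * (2 * n) := by
      rw [Finset.sum_ite, Finset.sum_const, Finset.sum_const, smul_eq_mul, smul_eq_mul, hcard]
    have hsplit := Finset.card_filter_add_card_filter_not (s := (Finset.univ : Finset Sg)) (fun s : Sg => (s : G) ∈ S₁)
    rw [hcard, Finset.card_univ, ← Nat.card_eq_fintype_card] at hsplit
    nlinarith
  -- one centraliser with many classes
  obtain ⟨s, hs⟩ : ∃ s : Sg, n < 2 * k s := by
    by_contra hall
    push Not at hall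
    have hle : ∀ c : A, 2 * kP p ↥(centralizer ({c.1.out} : Set G)) ≤ n := fun c => by
      obtain ⟨s, rfl⟩ := hf c
      rw [hkf]
      exact hall s
    have hsum := Finset.sum_le_sum (s := (Finset.univ : Finset A)) fun c _ => hle c
    rw [← Finset.mul_sum, Finset.sum_const, smul_eq_mul, Finset.card_univ] at hsum
    have hcA : Fintype.card A ≤ Nat.card Sg := by
      rw [← Nat.card_eq_fintype_card]
      exact Nat.card_le_card_of_surjective f hf
    have := Nat.mul_le_mul_right n hcA
    exact absurd (hsum.trans this) (not_le.2 h)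
  have hsQ : ∀ t ∈ Sg, t ∈ centralizer (Q : Set G) := fun t ht =>
    ((le_of_eq hall₁.symm) ht).2
  have hQs : Q ≤ centralizer ({(s : G)} : Set G) := fun x hx =>
    mem_centralizer_singleton_iff.2 (mem_centralizer_iff.1 (hsQ s s.2) x hx)
  set M := K ⊓ centralizer ({(s : G)} : Set G) with hM
  have hQM : Q ≤ M := le_inf (map_subtype_le _) hQs
  have hkM : k s ≤ kP p M := kP_le_of_range (Subgroup.inclusion (inf_le_right : M ≤ _))
    (Subgroup.inclusion_injective _) fun g hg =>
      ⟨⟨g, mem_of_pElt (p := p) K hp2 hK (by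
        obtain ⟨j, hj⟩ := hg
        exact ⟨j, by rwa [Subgroup.orderOf_coe]⟩), g.2⟩, rfl⟩
  let T : Sylow p M := Sylow.ofCard (Q.subgroupOf M) (by
    refine le_antisymm ?_ ?_
    · exact Nat.le_of_dvd (pow_pos hp.out.pos _) (by
        obtain ⟨j, hj⟩ := IsPGroup.iff_card.1 (hQp.comap_subtype (K := M))
        rw [show Q.subgroupOf M = Q.comap _ from rfl, hj]
        exact (pow_dvd_pow p ((hp.out.pow_dvd_iff_le_factorization Nat.card_pos.ne').1
          (hj ▸ card_subgroup_dvd_card _))))
    · rw [Nat.card_congr (subgroupOfEquivOfLe hQM).toEquiv, hQcard, hn]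
      exact Nat.pow_le_pow_right hp.out.pos
        ((Nat.factorization_le_iff_dvd Nat.card_pos.ne' Nat.card_pos.ne').2 (card_subgroup_dvd_card _) p))
  have hT : (T : Subgroup M) = Q.subgroupOf M := Sylow.coe_ofCard _ _
  obtain ⟨hab, hNC⟩ := odd_many_classes (hKodd.of_dvd_nat (card_dvd_of_le inf_le_left)) T (by
    rw [hT, Nat.card_congr (subgroupOfEquivOfLe hQM).toEquiv, hQcard]
    exact lt_of_lt_of_le hs (Nat.mul_le_mul_left 2 hkM))
  have hcommQ : ∀ x ∈ Q, ∀ y ∈ Q, Commute x y := fun x hx y hy =>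
    congrArg (fun z : (T : Subgroup M) => ((z : M) : G))
      (hab.is_comm.comm ⟨⟨x, hQM hx⟩, hT.symm ▸ hx⟩ ⟨⟨y, hQM hy⟩, hT.symm ▸ hy⟩)
  -- the normaliser in `K` centralises `Q`
  have hPKC : normalizer ((PK : Subgroup K) : Set K) ≤ centralizer ((PK : Subgroup K) : Set K) := by
    intro z hz
    have hzQ : (z : G) ∈ normalizer (Q : Set G) := by
      rw [mem_normalizer_iff_map_conj_eq]
      refine Subgroup.eq_of_le_of_card_ge ?_ (card_map_of_injective (MulAut.conj (z : G)).injective).ge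
      rintro _ ⟨_, ⟨x, hx, rfl⟩, rfl⟩
      exact ⟨z * x * z⁻¹, (mem_normalizer_iff.1 hz x).1 hx, rfl⟩
    set CQ := K ⊓ centralizer (Q : Set G) with hCQ
    have hsCQ : zpowers (s : G) ≤ normalizer (CQ : Set G) := zpowers_le.2 <|
      (Coprime.le_normalizer_inf le_normalizer_of_normal (Coprime.le_normalizer_centralizer hPK)) s.2
    obtain ⟨m, hm, hzm⟩ := Coprime.exists_fixed_mem_leftCoset (A := zpowers (s : G)) (N := CQ) hsCQ
      ((hcop.coprime_dvd_left (by rw [Nat.card_zpowers]; exact Subgroup.orderOf_dvd_natCard _ s.2)).coprime_dvd_right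
        (card_dvd_of_le inf_le_left))
      (Or.inl inferInstance) (k := (z : G)) (fun a ha => by
        have haS : a ∈ Sg := zpowers_le.2 s.2 ha
        refine ⟨K.mul_mem (K.inv_mem z.2) ((inferInstance : K.Normal).conj_mem _ z.2 a), ?_⟩
        rw [show (z : G)⁻¹ * (a * z * a⁻¹) = ((z : G)⁻¹ * a * z) * a⁻¹ by group]
        refine mul_mem (mem_centralizer_iff.2 fun x hx => ?_) ((centralizer (Q : Set G)).inv_mem (hsQ a haS))
        have hx' := mem_centralizer_iff.1 (hsQ a haS) _ ((mem_normalizer_iff.1 hzQ x).1 hx)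
        have h4 := congrArg (fun w => (z : G)⁻¹ * w * z) hx'
        simpa [mul_assoc] using h4)
    have hw : (z : G) * m ∈ M :=
      ⟨K.mul_mem z.2 hm.1, mem_centralizer_singleton_iff.2 (mem_centralizer_iff.1 hzm _ (mem_zpowers _)).symm⟩
    have hmQ : m ∈ normalizer (Q : Set G) := centralizer_le_normalizer _ hm.2
    have hwN : (⟨_, hw⟩ : M) ∈ normalizer ((T : Subgroup M) : Set M) := by
      rw [mem_normalizer_iff]
      intro x
      rw [hT, mem_subgroupOf, mem_subgroupOf]
      exact mem_normalizer_iff.1 (mul_mem hzQ hmQ) (x : G)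
    rw [mem_centralizer_iff]
    intro x hx
    refine Subtype.ext ?_
    have hxQ : (x : G) ∈ Q := mem_map_of_mem K.subtype hx
    have h5 : Commute (x : G) ((z : G) * m) := congrArg Subtype.val
      (mem_centralizer_iff.1 (hNC hwN) ⟨x, hQM hxQ⟩ (hT.symm ▸ hxQ))
    have h6 : Commute (x : G) m := mem_centralizer_iff.1 hm.2 _ hxQ
    have h7 := h5.mul_right h6.inv_right
    rwa [mul_inv_cancel_right] at h7
  have hcompl := MonoidHom.ker_transferSylow_isComplement' PK hPKC
  set N₀ := Cfsg.pPrimeCore p K with hN₀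
  have hkerle : (MonoidHom.transferSylow PK hPKC).ker ≤ N₀ := by
    refine Core.le_pPrimeCore ?_
    rw [← hcompl.index_eq_card]
    exact (hp.out.coprime_iff_not_dvd.2 PK.not_dvd_index).symm
  refine ⟨N₀.map K.subtype, ConjAct.normal_of_characteristic_of_normal, map_subtype_le _, ?_, ?_, fun x hx y hy => ?_⟩
  · rw [card_map_of_injective K.subtype_injective]
    exact hp.out.coprime_iff_not_dvd.1 Core.coprime_card_pPrimeCore.symm
  · rw [relIndex, show (N₀.map K.subtype).subgroupOf K = N₀ from comap_map_eq_self_of_injective K.subtype_injective N₀]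
    obtain ⟨j, hj⟩ := IsPGroup.iff_card.1 PK.2
    have hd := Subgroup.index_dvd_of_le hkerle
    rw [hcompl.symm.index_eq_card, hj] at hd
    obtain ⟨i, -, hi⟩ := (Nat.dvd_prime_pow hp.out).1 hd
    exact ⟨i, hi⟩
  · refine ⟨⟨x, hx⟩ * ⟨y, hy⟩ * ⟨x, hx⟩⁻¹ * ⟨y, hy⟩⁻¹, hkerle ?_, rfl⟩
    rw [MonoidHom.mem_ker, map_mul, map_mul, map_mul, map_inv, map_inv]
    set u := MonoidHom.transferSylow PK hPKC ⟨x, hx⟩
    set v := MonoidHom.transferSylow PK hPKC ⟨y, hy⟩
    have huv : u * v = v * u := Subtype.ext (Subtype.ext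
      (hcommQ _ (mem_map_of_mem K.subtype u.2) _ (mem_map_of_mem K.subtype v.2)).eq)
    rw [huv, mul_inv_cancel_right, mul_inv_cancel]

end weighted

end Cfsg.Agent.ClassCount
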